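import Cfsg.Agent.Lib.Goldschmidt.RankTwo.UTwo
import Cfsg.Agent.Lib.Char.ZStarElement

/-!
# Rank two: no mobile involution is central in a Sylow 2-subgroup

If some translate by `A` is mobile too, the commutators of `Ω₁Z(S)` with the elements of `N(S) ∩ C(A)` form a strongly
closed group avoiding `A`, or the involution is isolated.  If none is, the mobile elements of `S` are those of `P`, so
`P` is strongly closed.
-/

set_option autoImplicit false
set_option linter.style.haveILetI false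
set_option linter.unusedSectionVars false

namespace Cfsg.Agent.Goldschmidt

open Subgroup
open Cfsg.Agent.Local.SCA (SC conj_mem)

universe u

variable {G : Type u} [Group G] [Finite G] {A : Subgroup G}

/-- Every mobile involution has data at every Sylow subgroup over `A` of its centraliser. -/
def DataExists (A : Subgroup G) : Prop :=
  ∀ z : G, orderOf z = 2 → Mobile A z → A ≤ centralizer ({z} : Set G) →
    ∀ T : Subgroup G, Fusion.SylIn 2 T (centralizer ({z} : Set G)) → A ≤ T → ∃ U P : Subgroup G, CData A z T U P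

namespace CData

variable {z : G} {S : Sylow 2 G} {U P : Subgroup G} (h : Rk2 G A) (hD : DataExists A)
  (d : CData A z (S : Subgroup G) U P)
include h d

theorem AS : A ≤ (S : Subgroup G) := d.AT

theorem z_comm {s : G} (hs : s ∈ (S : Subgroup G)) : s * z = z * s :=
  mem_centralizer_singleton_iff.1 (d.syl.le hs)

/-- An involution of `U P` lies in `A P`. -/
theorem invol_mem {x : G} (hx : x ∈ U ⊔ P) (h2 : x * x = 1) : x ∈ A ⊔ P := by
  obtain ⟨u, hu, p, hp, rfl⟩ := d.exists_mul_U hx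
  have h1 : u * u = (p * p)⁻¹ := by
    refine eq_inv_of_mul_eq_one_left ?_
    rw [← h2, show u * p * (u * p) = u * (p * u) * p by group, ← d.comm hu hp]
    group
  have h3 : u * u ∈ U ⊓ P := ⟨U.mul_mem hu hu, h1 ▸ P.inv_mem (P.mul_mem hp hp)⟩
  rw [d.disj, mem_bot] at h3
  exact mul_mem (mem_sup_left (d.invU u hu h3)) (mem_sup_right hp)

/-- A component over a Sylow subgroup of `G` with `U = A` forces the same at every mobile involution. -/
theorem isL_of_isL (hL : U = A ∧ (S : Subgroup G) = A ⊔ P) {w : G} {T' U' P' : Subgroup G}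
    (d' : CData A w T' U' P') : U' = A := by
  rcases d'.types with ⟨e, -⟩ | hu
  · exact e
  exfalso
  haveI : Fact (Nat.Prime 2) := ⟨Nat.prime_two⟩
  obtain ⟨g, -, hg⟩ := (Fusion.sylIn_top S).conj_le d'.isPGroup le_top
  have hgA : ∀ a ∈ A, g * a * g⁻¹ ∈ A := fun a ha =>
    (h.hyp.sc.closed_in (d.AS h)).2 a ha g (hg ⟨a, d'.AT ha, rfl⟩)
  have hab : ∀ u ∈ U', ∀ v ∈ U', u * v * u⁻¹ * v⁻¹ = 1 := by
    intro u hu' v hv
    have h1 : g * (u * v * u⁻¹ * v⁻¹) * g⁻¹ ∈ A := hgA _ (hu.comm u hu' v hv)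
    have hmem : ∀ y ∈ U', g * y * g⁻¹ ∈ A ⊔ P := fun y hy => hL.2 ▸ hg ⟨y, d'.UT hy, rfl⟩
    obtain ⟨a, ha, p, hp, e1⟩ := d.exists_mul (hmem u hu')
    obtain ⟨b, hb, q, hq, e2⟩ := d.exists_mul (hmem v hv)
    have e3 : g * (u * v * u⁻¹ * v⁻¹) * g⁻¹ = p * q * p⁻¹ * q⁻¹ := by
      calc g * (u * v * u⁻¹ * v⁻¹) * g⁻¹
          = (g * u * g⁻¹) * (g * v * g⁻¹) * (g * u * g⁻¹)⁻¹ * (g * v * g⁻¹)⁻¹ := by group
        _ = a * (p * b) * q * p⁻¹ * a⁻¹ * q⁻¹ * b⁻¹ := by rw [e1, e2]; group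
        _ = a * (b * p) * q * p⁻¹ * (a⁻¹ * q⁻¹) * b⁻¹ := by rw [d.A_central h (d.PT hp) hb]; group
        _ = a * (b * p) * q * p⁻¹ * (q⁻¹ * a⁻¹) * b⁻¹ := by
            rw [d.A_central h (d.PT (inv_mem hq)) (inv_mem ha)]
        _ = a * b * (p * q * p⁻¹ * q⁻¹) * (b * a)⁻¹ := by group
        _ = _ := by
            rw [h.comm hb ha, show a * b * (p * q * p⁻¹ * q⁻¹) = p * q * p⁻¹ * q⁻¹ * (a * b) from
              d.A_central h (d.PT (mul_mem (mul_mem (mul_mem hp hq) (inv_mem hp)) (inv_mem hq))) (mul_mem ha hb),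
              mul_inv_cancel_right]
    have h2 : g * (u * v * u⁻¹ * v⁻¹) * g⁻¹ ∈ A ⊓ P :=
      ⟨h1, e3 ▸ P.mul_mem (P.mul_mem (P.mul_mem hp hq) (P.inv_mem hp)) (P.inv_mem hq)⟩
    rw [d.A_inf_P, mem_bot] at h2
    exact conj_eq_one_iff.1 h2
  have hle : U' ≤ A := fun u hu' => d'.center_U h hu hu' fun v hv =>
    mul_inv_eq_iff_eq_mul.1 (mul_inv_eq_one.1 (hab u hu' v hv))
  have := Subgroup.card_le_of_le hle
  rw [hu.card, h.four] at this
  omega

/-- Two central mobile involutions in one coset of `A`: the parts centralising the components are disjoint. -/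
theorem inf_eq_bot (hD : DataExists A) {b : G} (hb : b ∈ A) (hb1 : b ≠ 1) {U' P' : Subgroup G}
    (d' : CData A (z * b) (S : Subgroup G) U' P') : P ⊓ P' = ⊥ := by
  by_contra hne
  haveI : Fact (Nat.Prime 2) := ⟨Nat.prime_two⟩
  obtain ⟨p, ⟨hpP, hpP'⟩, hp2, hpc⟩ := exists_fixed_involution S.isPGroup' (inf_le_left.trans d.PT)
    (fun s hs => mem_normalizer_fintype fun x hx => ⟨conj_mem (d.normP hs) hx.1, conj_mem (d'.normP hs) hx.2⟩) hne
  obtain ⟨Up, Pp, dp⟩ := hD p hp2 (d.mobile_of_mem hpP)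
    (fun a ha => mem_centralizer_singleton_iff.2 (hpc a (d.AS h ha))) S
    ((Fusion.sylIn_top S).mono (fun s hs => mem_centralizer_singleton_iff.2 (hpc s hs)) le_top) (d.AS h)
  have hsub : ∀ {P0 : Subgroup G}, p ∈ P0 → centralizer (P0 : Set G) ≤ centralizer ({p} : Set G) := fun hp =>
    centralizer_le (Set.singleton_subset_iff.2 hp)
  have hz1 : z ∈ Pp := by
    refine dp.mem_P (dp.cent h (d.PT d.mem) fun u hu => (d.z_comm h (dp.UT hu)).symm) fun hs => ?_
    exact d.move (hs.mono (le_inf (inf_le_right.trans (hsub hpP)) inf_le_left))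
  have hz2 : z * b ∈ Pp := by
    refine dp.mem_P (dp.cent h (d'.PT d'.mem) fun u hu => (d'.z_comm h (dp.UT hu)).symm) fun hs => ?_
    exact d'.move (hs.mono (le_inf (inf_le_right.trans (hsub hpP')) inf_le_left))
  have h1 : b ∈ A ⊓ Pp := ⟨hb, by simpa using mul_mem (inv_mem hz1) hz2⟩
  rw [dp.A_inf_P, mem_bot] at h1
  exact hb1 h1

/-- The pair case. -/
theorem false_of_pair (hD : DataExists A) {b : G} (hb : b ∈ A) (hb1 : b ≠ 1) (hm : Mobile A (z * b)) : False := by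
  classical
  haveI : Fact (Nat.Prime 2) := ⟨Nat.prime_two⟩
  haveI := h.hyp.simple
  have hAS := d.AS h
  have hzb : z * b = b * z := d.A_central h (d.PT d.mem) hb |>.symm
  have hzb2 : z * b * (z * b) = 1 := by
    rw [show z * b * (z * b) = z * (b * z) * b by group, ← hzb, ← mul_assoc, d.sq_one, one_mul, h.sq hb]
  have ho : orderOf (z * b) = 2 := orderOf_eq_prime (by rw [pow_two, hzb2]) fun e => d.notA (by
    rw [eq_inv_of_mul_eq_one_left e]; exact inv_mem hb)
  obtain ⟨U', P', d'⟩ := hD (z * b) ho hm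
    (fun a ha => mem_centralizer_singleton_iff.2 (d.A_central h (mul_mem (d.PT d.mem) (hAS hb)) ha))
    S ((Fusion.sylIn_top S).mono (fun s hs => mem_centralizer_singleton_iff.2 (by
      rw [← mul_assoc, d.z_comm h hs, mul_assoc, ← d.A_central h hs hb, mul_assoc])) le_top) hAS
  have hdis := d.inf_eq_bot h hD hb hb1 d'
  have hle : ∀ {z₁ z₂ : G} {U₁ P₁ U₂ P₂ : Subgroup G}, CData A z₁ (S : Subgroup G) U₁ P₁ →
      CData A z₂ (S : Subgroup G) U₂ P₂ → P₂ ≤ A ⊔ P₁ := by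
    intro z₁ z₂ U₁ P₁ U₂ P₂ d₁ d₂
    have hbot : U₁ ⊓ P₂ = ⊥ := by
      by_contra hne
      obtain ⟨i, hi, hi2, -⟩ := exists_fixed_involution (S.isPGroup'.to_le (inf_le_left.trans d₁.UT))
        le_rfl Subgroup.le_normalizer hne
      have : i ∈ A ⊓ P₂ := ⟨d₁.invU i hi.1 (by rw [← pow_two, ← hi2, pow_orderOf_eq_one]), hi.2⟩
      rw [d₂.A_inf_P, mem_bot] at this
      simp [this] at hi2
    intro x hx
    refine d₁.cent h (d₂.PT hx) fun u hu => ?_
    have h1 : x * u * x⁻¹ * u⁻¹ ∈ U₁ ⊓ P₂ := by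
      refine ⟨U₁.mul_mem (conj_mem (d₁.normU (d₂.PT hx)) hu) (inv_mem hu), ?_⟩
      rw [show x * u * x⁻¹ * u⁻¹ = x * (u * x⁻¹ * u⁻¹) by group]
      exact P₂.mul_mem hx (conj_mem (d₂.normP (d₁.UT hu)) (inv_mem hx))
    rw [hbot, mem_bot, mul_inv_eq_one, mul_inv_eq_iff_eq_mul] at h1
    exact h1
  have hPP' := hle d' d
  have hcenP : ∀ x ∈ P, x * x = 1 ∧ ∀ s ∈ (S : Subgroup G), s * x = x * s := by
    intro x hx
    obtain ⟨a, ha, p, hp, e⟩ := d'.exists_mul (hPP' hx)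
    refine ⟨?_, fun s hs => ?_⟩
    · have h1 : x * x ∈ P ⊓ P' := ⟨P.mul_mem hx hx, by
        rw [e, show a * p * (a * p) = a * (p * a) * p by group, ← d'.A_central h (d'.PT hp) ha, ← mul_assoc,
          h.sq ha, one_mul]
        exact mul_mem hp hp⟩
      rwa [hdis, mem_bot] at h1
    · have h1 : s * x * s⁻¹ * x⁻¹ ∈ P ⊓ P' := ⟨P.mul_mem (conj_mem (d.normP hs) hx) (P.inv_mem hx), by
        rw [e, show s * (a * p) * s⁻¹ * (a * p)⁻¹ = s * a * s⁻¹ * (s * p * s⁻¹ * p⁻¹) * a⁻¹ by group,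
          d.conj_A h hs ha]
        have h2 : s * p * s⁻¹ * p⁻¹ ∈ P' := mul_mem (conj_mem (d'.normP hs) hp) (inv_mem hp)
        rw [d'.A_central h (d'.PT h2) ha, mul_inv_cancel_right]
        exact h2⟩
      rw [hdis, mem_bot, mul_inv_eq_one, mul_inv_eq_iff_eq_mul] at h1
      exact h1
  set E := A ⊔ P with hE
  have hES : E ≤ (S : Subgroup G) := sup_le hAS d.PT
  have hEchar : ∀ x, x ∈ E ↔ x ∈ (S : Subgroup G) ∧ x * x = 1 ∧ ∀ s ∈ (S : Subgroup G), s * x = x * s := by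
    intro x
    refine ⟨fun hx => ?_, fun ⟨hxS, _, hc⟩ => d.cent h hxS fun u hu => (hc u (d.UT hu)).symm⟩
    obtain ⟨a, ha, p, hp, rfl⟩ := d.exists_mul hx
    refine ⟨hES hx, ?_, fun s hs => ?_⟩
    · rw [show a * p * (a * p) = a * (p * a) * p by group, ← d.A_central h (d.PT hp) ha, ← mul_assoc, h.sq ha,
        one_mul, (hcenP p hp).1]
    · rw [← mul_assoc, ← d.A_central h hs ha, mul_assoc, (hcenP p hp).2 s hs, mul_assoc]
  set N := normalizer ((S : Subgroup G) : Set G) with hN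
  have hNA : N ≤ normalizer (A : Set G) := fun n hn => mem_normalizer_fintype fun a ha =>
    (h.hyp.sc.closed_in hAS).2 a ha n (conj_mem hn (hAS ha))
  have hNE : N ≤ normalizer (E : Set G) := fun n hn => mem_normalizer_fintype fun x hx => by
    obtain ⟨hxS, hx2, hxc⟩ := (hEchar x).1 hx
    refine (hEchar _).2 ⟨conj_mem hn hxS, ?_, fun s hs => ?_⟩
    · rw [show n * x * n⁻¹ * (n * x * n⁻¹) = n * (x * x) * n⁻¹ by group, hx2]; group
    · have := hxc _ (conj_mem (inv_mem hn) hs)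
      calc s * (n * x * n⁻¹) = n * (n⁻¹ * s * n⁻¹⁻¹ * x) * n⁻¹ := by group
        _ = n * (x * (n⁻¹ * s * n⁻¹⁻¹)) * n⁻¹ := by rw [this]
        _ = _ := by group
  set H := N ⊓ centralizer (A : Set G) with hH
  -- averaging
  letI : CommGroup ↥E :=
    { (inferInstance : Group ↥E) with
      mul_comm := fun x y => Subtype.ext (((hEchar y).1 y.2).2.2 x (hES x.2)) }
  let ψ : ↥H →* MulAut ↥E := (Subgroup.normalizerMonoidHom E).comp
    (Subgroup.inclusion (inf_le_left.trans hNE : H ≤ normalizer (E : Set G)))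
  have hψ : ∀ (n : H) (x : E), ((ψ n x : E) : G) = n * x * (n : G)⁻¹ := fun _ _ => rfl
  have hodd : Odd (Nat.card ψ.range) := by
    rw [← Subgroup.index_ker, Nat.odd_iff, ← Nat.two_dvd_ne_zero]
    intro h2
    have hSH : (S : Subgroup G) ≤ H := le_inf Subgroup.le_normalizer (h.central S.isPGroup' hAS)
    refine ((Fusion.sylIn_top S).mono hSH le_top).not_dvd (h2.trans ?_)
    refine Subgroup.index_dvd_of_le (fun s hs => MulEquiv.ext fun x => Subtype.ext ?_)
    rw [hψ, ((hEchar x).1 x.2).2.2 s hs, mul_inv_cancel_right]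
    rfl
  letI : Fintype ψ.range := Fintype.ofFinite _
  let μ : ↥E →* ↥E := MonoidHom.mk' (fun x => ∏ α : ψ.range, (α : MulAut ↥E) x) fun x y => by
    simp only [map_mul, Finset.prod_mul_distrib]
  set Q : Subgroup G := (closure {x : ↥E | ∃ (n : H) (e : E), x = ψ n e * e⁻¹}).map E.subtype with hQ
  have hQE : Q ≤ E := Subgroup.map_subtype_le _
  have hμ : ∀ x : E, (x : G) ∈ Q → μ x = 1 := by
    rintro x ⟨y, hy, e⟩
    rw [show x = y from Subtype.ext e.symm]
    refine (Subgroup.closure_le μ.ker).2 ?_ hy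
    rintro _ ⟨n, e', rfl⟩
    rw [SetLike.mem_coe, MonoidHom.mem_ker, map_mul, map_inv, mul_inv_eq_one]
    show ∏ α : ψ.range, (α : MulAut ↥E) (ψ n e') = ∏ α : ψ.range, (α : MulAut ↥E) e'
    exact Equiv.prod_comp (Equiv.mulRight (⟨ψ n, n, rfl⟩ : ψ.range)) fun α => (α : MulAut ↥E) e'
  have hQA : A ⊓ Q = ⊥ := by
    refine (Subgroup.eq_bot_iff_forall _).2 fun a ha => ?_
    have ha' : a ∈ E := hQE ha.2
    have h1 := hμ ⟨a, ha'⟩ ha.2
    have h2 : μ ⟨a, ha'⟩ = (⟨a, ha'⟩ : E) ^ Nat.card ψ.range := by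
      show ∏ α : ψ.range, (α : MulAut ↥E) ⟨a, ha'⟩ = _
      rw [Finset.prod_congr rfl (g := fun _ => (⟨a, ha'⟩ : E)) fun α _ => ?_, Finset.prod_const, Finset.card_univ,
        Nat.card_eq_fintype_card]
      obtain ⟨_, n, rfl⟩ := α
      exact Subtype.ext (by rw [hψ, ← mem_centralizer_iff.1 n.2.2 a ha.1, mul_inv_cancel_right])
    obtain ⟨c, hc⟩ := hodd
    rw [h2, hc, pow_succ, pow_mul, pow_two, show (⟨a, ha'⟩ : E) * ⟨a, ha'⟩ = 1 from Subtype.ext (h.sq ha.1),
      one_pow, one_mul] at h1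
    exact congrArg Subtype.val h1
  have hQN : ∀ n ∈ N, ∀ x ∈ Q, n * x * n⁻¹ ∈ Q := by
    intro n hn
    have hle : Q ≤ Fusion.cj Q n⁻¹ := by
      refine Subgroup.map_le_iff_le_comap.2 ((Subgroup.closure_le _).2 ?_)
      rintro _ ⟨m, e, rfl⟩
      rw [SetLike.mem_coe, Subgroup.mem_comap, Fusion.mem_cj, inv_inv, hQ]
      have hm : n * m * n⁻¹ ∈ H := ⟨N.mul_mem (N.mul_mem hn m.2.1) (N.inv_mem hn),
        mem_centralizer_iff.2 fun a ha => by
          have h1 := mem_centralizer_iff.1 m.2.2 _ (conj_mem (inv_mem (hNA hn)) ha)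
          calc a * (n * m * n⁻¹) = n * (n⁻¹ * a * n⁻¹⁻¹ * m) * n⁻¹ := by group
            _ = n * (m * (n⁻¹ * a * n⁻¹⁻¹)) * n⁻¹ := by rw [h1]
            _ = _ := by group⟩
      refine ⟨⟨_, conj_mem (hNE hn) (ψ m e * e⁻¹).2⟩, Subgroup.subset_closure ⟨⟨_, hm⟩,
        ⟨_, conj_mem (hNE hn) e.2⟩, Subtype.ext ?_⟩, rfl⟩
      push_cast [hψ]
      group
    intro x hx
    have := hle hx
    rwa [Fusion.mem_cj, inv_inv] at this
  have hburn : ∀ {x g : G}, x ∈ E → g * x * g⁻¹ ∈ E → ∃ n ∈ N, n * x * n⁻¹ = g * x * g⁻¹ := by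
    intro x g hx hgx
    have h1 : ∀ y ∈ E, (S : Subgroup G) ≤ centralizer ({y} : Set G) := fun y hy s hs =>
      mem_centralizer_singleton_iff.2 (((hEchar y).1 hy).2.2 s hs)
    have h2 : Fusion.cj (S : Subgroup G) g ≤ centralizer ({g * x * g⁻¹} : Set G) := by
      rintro _ ⟨s, hs, rfl⟩
      refine mem_centralizer_singleton_iff.2 ?_
      show g * s * g⁻¹ * (g * x * g⁻¹) = g * x * g⁻¹ * (g * s * g⁻¹)
      calc g * s * g⁻¹ * (g * x * g⁻¹) = g * (s * x) * g⁻¹ := by group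
        _ = g * (x * s) * g⁻¹ := by rw [((hEchar x).1 hx).2.2 s hs]
        _ = _ := by group
    obtain ⟨k, hk, e⟩ := (((Fusion.sylIn_top S).cj' (g := g) (by rw [Subgroup.normalizer_eq_top]; exact mem_top g)
      ).mono h2 le_top).conj_eq ((Fusion.sylIn_top S).mono (h1 _ hgx) le_top)
    refine ⟨k * g, Fusion.mem_normalizer_iff_cj.2 (by rw [← Fusion.cj_cj]; exact e), ?_⟩
    calc k * g * x * (k * g)⁻¹ = k * (g * x * g⁻¹) * k⁻¹ := by group
      _ = g * x * g⁻¹ := by rw [mem_centralizer_singleton_iff.1 hk, mul_inv_cancel_right]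
  -- conjugates of a central element are central unless it is conjugate to a translate
  have hcase : ∀ {x g : G}, x ∈ E → g * x * g⁻¹ ∈ (S : Subgroup G) →
      (∀ c ∈ A, c ≠ 1 → ∀ n ∈ N, n * x * n⁻¹ ≠ x * c) → g * x * g⁻¹ ∈ E := by
    intro x g hx hgx hne
    by_contra hw
    set w := g * x * g⁻¹ with hw'
    have hw2 : w * w = 1 := by
      rw [hw', show g * x * g⁻¹ * (g * x * g⁻¹) = g * (x * x) * g⁻¹ by group, ((hEchar x).1 hx).2.1]
      group
    have hwo : w ∉ U ⊔ P := fun hmem => hw (d.invol_mem h hmem hw2)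
    rcases d.types with ⟨-, hT⟩ | hu
    · exact hw (hT.le hgx)
    obtain ⟨u, hu', hc1, hc2⟩ := d.exists_move h hu hgx hwo (by rw [hw2]; exact one_mem _)
    obtain ⟨n, hn, hne'⟩ := h.fuse hAS (D := {x}) (Set.singleton_subset_iff.2 (hES hx)) (g := g)
      (fun y hy => by rw [Set.mem_singleton_iff.1 hy]; exact hgx)
    have hne' := hne' x rfl
    set c := w⁻¹ * (u * w * u⁻¹) with hc
    have hcA : c ∈ A := by
      have h1 := inv_mem hc1
      rw [show (w * u * w⁻¹ * u⁻¹)⁻¹ = u * w * u⁻¹ * w⁻¹ by group] at h1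
      rw [hc, show w⁻¹ * (u * w * u⁻¹) = w⁻¹ * (u * w * u⁻¹ * w⁻¹) * w by group, show w⁻¹ = w from
        inv_eq_of_mul_eq_one_left hw2]
      have h2 := d.A_central h hgx h1
      rw [show u * w * u⁻¹ * w = u * w * u⁻¹ * w⁻¹ by rw [inv_eq_of_mul_eq_one_left hw2], ← h2, mul_assoc, hw2,
        mul_one]
      exact h1
    have hc1' : c ≠ 1 := fun e => hc2 (by
      rw [hc, inv_mul_eq_one] at e
      rw [mul_inv_eq_one, mul_inv_eq_iff_eq_mul]
      have := congrArg (fun y => y * u) e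
      simpa [mul_assoc] using this)
    have hc'A : n⁻¹ * c * n ∈ A := by simpa using conj_mem (inv_mem hn) hcA
    have hxc : n⁻¹ * u * g * x * (n⁻¹ * u * g)⁻¹ = x * (n⁻¹ * c * n) := by
      calc n⁻¹ * u * g * x * (n⁻¹ * u * g)⁻¹ = n⁻¹ * (u * (g * x * g⁻¹) * u⁻¹) * n := by group
        _ = n⁻¹ * (w * c) * n := by rw [← hw', hc]; group
        _ = n⁻¹ * (n * x * n⁻¹ * c) * n := by rw [hne']
        _ = _ := by group
    obtain ⟨m, hm, he⟩ := hburn hx (g := n⁻¹ * u * g) (hxc ▸ mul_mem hx (mem_sup_left hc'A))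
    exact hne _ hc'A (fun e => hc1' (by
      have := congrArg (fun y => n * y * n⁻¹) e
      simpa [mul_assoc] using this)) m hm (he.trans hxc)
  by_cases hQ1 : Q = ⊥
  · -- the involution is isolated
    have hfix : ∀ n ∈ N, n * z * n⁻¹ = z := by
      have hH' : ∀ n ∈ H, ∀ x ∈ E, n * x * n⁻¹ = x := by
        intro n hn x hx
        have h1 : ((ψ ⟨n, hn⟩ ⟨x, hx⟩ * (⟨x, hx⟩ : E)⁻¹ : E) : G) ∈ Q :=
          ⟨_, Subgroup.subset_closure ⟨_, _, rfl⟩, rfl⟩
        rw [hQ1, mem_bot] at h1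
        exact mul_inv_eq_one.1 h1
      intro n hn
      obtain ⟨r, hrz, hrA, hrT, -, -, hrn, -⟩ := d.turn
      obtain ⟨a, ha, ha1⟩ := (Subgroup.bot_or_exists_ne_one A).resolve_left h.hyp.ne
      have hrz' : r * z * r⁻¹ = z := by rw [mem_centralizer_singleton_iff.1 hrz, mul_inv_cancel_right]
      have key : ∀ c : G, c * z * c⁻¹ = z → c ∈ N → (c⁻¹ * n) * a * (c⁻¹ * n)⁻¹ = a → n * z * n⁻¹ = z := by
        intro c hc hcN hfix'
        have hH0 : c⁻¹ * n ∈ H := ⟨N.mul_mem (N.inv_mem hcN) hn, h.fix_cent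
          (hNA (mul_mem (inv_mem hcN) hn)) ha ha1 (mul_inv_eq_iff_eq_mul.1 hfix')⟩
        calc n * z * n⁻¹ = c * ((c⁻¹ * n) * z * (c⁻¹ * n)⁻¹) * c⁻¹ := by group
          _ = z := by rw [hH' _ hH0 z (mem_sup_right d.mem), hc]
      rcases h.trans_of_mover hrA hrn ha ha1 (conj_mem (hNA hn) ha) (fun e => ha1 (conj_eq_one_iff.1 e))
        with e | e | e
      · exact key 1 (by group) (one_mem _) (by simpa using e)
      · exact key r hrz' hrT (by
          rw [show r⁻¹ * n * a * (r⁻¹ * n)⁻¹ = r⁻¹ * (n * a * n⁻¹) * r by group, e]; group)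
      · exact key (r * r) (by rw [show r * r * z * (r * r)⁻¹ = r * (r * z * r⁻¹) * r⁻¹ by group, hrz', hrz'])
          (mul_mem hrT hrT) (by
          rw [show (r * r)⁻¹ * n * a * ((r * r)⁻¹ * n)⁻¹ = (r * r)⁻¹ * (n * a * n⁻¹) * (r * r) by simp [mul_assoc], e]
          simp [mul_assoc])
    have hiso : ∀ g : G, g * z * g⁻¹ ∈ (S : Subgroup G) → g * z * g⁻¹ = z := by
      intro g hg
      have h1 := hcase (mem_sup_right d.mem) hg fun c _ hc1 n hn => by
        rw [hfix n hn]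
        exact fun e => hc1 (mul_eq_left.1 e.symm)
      obtain ⟨n, hn, e⟩ := hburn (mem_sup_right d.mem) h1
      rw [← e, hfix n hn]
    have h1 := Char.isolatedElt_central (d.PT d.mem) (fun y hy g hg => by
      obtain ⟨k, rfl⟩ := Subgroup.mem_zpowers_iff.1 hy
      rcases Int.even_or_odd k with ⟨i, hi⟩ | ⟨i, hi⟩
      · rw [hi, ← two_mul, zpow_mul, show z ^ (2 : ℤ) = z * z from zpow_two z, d.sq_one, one_zpow]; group
      · rw [hi, zpow_add, zpow_mul, show z ^ (2 : ℤ) = z * z from zpow_two z, d.sq_one, one_zpow, one_mul,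
          zpow_one] at hg ⊢
        exact hiso g hg)
    rw [CI.simple_core h.hyp.nonab] at h1
    refine h.hyp.centralizer_ne_top d.ne_one (eq_top_iff.2 fun g _ => mem_centralizer_singleton_iff.2 ?_)
    have := mem_bot.1 (h1 g)
    exact (mul_inv_eq_iff_eq_mul.1 (mul_inv_eq_one.1 this)).symm
  · refine hQ1 (h.no_closed hAS ⟨hQE.trans hES, fun q hq g hg => ?_⟩ hQA)
    have h1 := hcase (hQE hq) hg fun c hc hc1 n hn e => hc1 (by
      have h2 : c ∈ A ⊓ Q := ⟨hc, by simpa [e] using mul_mem (inv_mem hq) (hQN n hn q hq)⟩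
      rwa [hQA, mem_bot] at h2)
    obtain ⟨n, hn, e⟩ := hburn (hQE hq) h1
    exact e ▸ hQN n hn q hq

/-- Mobile elements of `U P`, when no central mobile involution has a mobile translate. -/
theorem mobile_mem (hD : DataExists A)
    (hnp : ∀ y : G, y ∈ (S : Subgroup G) → y * y = 1 → (∀ s ∈ (S : Subgroup G), s * y = y * s) → y ∉ A →
      Mobile A y → ∀ b ∈ A, b ≠ 1 → ¬ Mobile A (y * b))
    {x : G} (hx : x ∈ U ⊔ P) (hx1 : x ≠ 1) (hm : Mobile A x) : x ∈ P := by
  classical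
  have hLL : ∀ {w : G} {T' U' P' : Subgroup G}, CData A w T' U' P' → U = A → U' = A := by
    intro w T' U' P' d' hUA
    rcases d.types with hL | hu
    · exact d.isL_of_isL h hL d'
    · have h64 := hu.card
      rw [hUA, h.four] at h64
      omega
  haveI : Fact (Nat.Prime 2) := ⟨Nat.prime_two⟩
  have hAS := d.AS h
  have hxS : x ∈ (S : Subgroup G) := (sup_le d.UT d.PT) hx
  -- data at a mobile involution of `A P`
  have hdata : ∀ {w : G}, w ∈ A ⊔ P → orderOf w = 2 → Mobile A w →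
      ∃ T' U' P', CData A w T' U' P' ∧ U ≤ T' ∧ (S : Subgroup G) ⊓ centralizer ({w} : Set G) ≤ T' := by
    intro w hw hw2 hwm
    obtain ⟨a, ha, p, hp, rfl⟩ := d.exists_mul hw
    have hwS : a * p ∈ (S : Subgroup G) := mul_mem (hAS ha) (d.PT hp)
    have hAC : A ≤ centralizer ({a * p} : Set G) := fun c hc =>
      mem_centralizer_singleton_iff.2 (d.A_central h hwS hc)
    obtain ⟨T', hT', hle⟩ := Fusion.exists_sylIn_ge (Q := (S : Subgroup G) ⊓ centralizer ({a * p} : Set G))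
      S.isPGroup'.to_inf_left inf_le_right
    obtain ⟨U', P', d'⟩ := hD _ hw2 hwm hAC T' hT' (le_trans (le_inf hAS hAC) hle)
    refine ⟨T', U', P', d', le_trans (le_inf d.UT fun u hu => mem_centralizer_singleton_iff.2 ?_) hle, hle⟩
    rw [← mul_assoc, ← d.A_central h (d.UT hu) ha, mul_assoc, d.comm hu hp, mul_assoc]
  -- involutions
  have hinv : ∀ {w : G}, w ∈ A ⊔ P → orderOf w = 2 → Mobile A w → w ∈ P := by
    intro w hw hw2 hwm
    obtain ⟨T', U', P', d', hUT', hle⟩ := hdata hw hw2 hwm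
    obtain ⟨a, ha, p, hp, rfl⟩ := d.exists_mul hw
    by_cases ha1 : a = 1
    · rwa [ha1, one_mul]
    exfalso
    have hzT' : z ∈ T' := hle ⟨d.PT d.mem, mem_centralizer_singleton_iff.2
      (d.z_comm h (mul_mem (hAS ha) (d.PT hp))).symm⟩
    obtain ⟨c, hc, q, hq, e⟩ := d'.exists_mul (d.cent_transfer h d' (hLL d') hUT' hzT' fun u hu => (d.z_comm h (d.UT hu)).symm)
    have hqz : q = z * c := by
      rw [e, d'.A_central h (d'.PT hq) hc, mul_assoc, h.sq hc, mul_one]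
    by_cases hc1 : c = 1
    · rw [hc1, one_mul] at e
      refine d'.move ((d.kill a ha ha1 p hp).mono (le_inf ?_ inf_le_left))
      exact inf_le_right.trans (centralizer_le (Set.singleton_subset_iff.2 (e ▸ hq)))
    · refine hnp z (d.PT d.mem) d.sq_one (fun s hs => d.z_comm h hs) d.notA d.mobile c hc hc1 ?_
      rw [← hqz]
      exact d'.mobile_of_mem hq
  -- elements of `A P`
  have hAP : ∀ {y : G}, y ∈ A ⊔ P → y ≠ 1 → Mobile A y → y ∈ P := by
    intro y hy hy1 hym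
    have hyS : y ∈ (S : Subgroup G) := (sup_le hAS d.PT) hy
    obtain ⟨k, hk⟩ := IsPGroup.iff_orderOf.1 S.isPGroup' ⟨y, hyS⟩
    rw [orderOf_mk] at hk
    obtain ⟨j, rfl⟩ : ∃ j, k = j + 1 := ⟨k - 1, by
      have : k ≠ 0 := fun e => hy1 (orderOf_eq_one_iff.1 (by rw [hk, e, pow_zero]))
      omega⟩
    have hq2 : orderOf (y ^ 2 ^ j) = 2 := by
      rw [orderOf_pow' y (by positivity), hk, Nat.gcd_eq_right (pow_dvd_pow 2 (Nat.le_succ j)), pow_succ,
        Nat.mul_div_cancel_left _ (by positivity)]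
    rcases Nat.eq_zero_or_pos j with rfl | hj
    · exact hinv hy (by simpa using hq2) hym
    obtain ⟨a, ha, p, hp, rfl⟩ := d.exists_mul hy
    set q := (a * p) ^ 2 ^ j with hq
    have hqp : q = p ^ 2 ^ j := by
      obtain ⟨i, rfl⟩ : ∃ i, j = i + 1 := ⟨j - 1, by omega⟩
      rw [hq, Commute.mul_pow (d.A_central h (d.PT hp) ha), pow_succ', pow_mul a, pow_two, h.sq ha, one_pow, one_mul]
    have hqP : q ∈ P := hqp ▸ pow_mem hp _
    obtain ⟨T', U', P', d', hUT', hle⟩ := hdata (mem_sup_right hqP) hq2 (d.mobile_of_mem hqP)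
    have hpT' : p ∈ T' := hle ⟨d.PT hp, mem_centralizer_singleton_iff.2 (hqp ▸ (Commute.pow_self p _).symm.eq)⟩
    have haT' : a ∈ T' := d'.AT ha
    have hp' : p ∈ P' := by
      refine d'.mem_P (d.cent_transfer h d' (hLL d') hUT' hpT' fun u hu => (d.comm hu hp).symm) fun hs => d.move (hs.mono ?_)
      exact le_inf (inf_le_right.trans (centralizer_le (Set.singleton_subset_iff.2 hqP)))
        (inf_le_right.trans (centralizer_le (Set.singleton_subset_iff.2 hp)))
    have hy' : a * p ∈ P' := by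
      refine d'.mem_P (d.cent_transfer h d' (hLL d') hUT' (mul_mem haT' hpT') fun u hu => ?_) fun hs => hym (hs.mono ?_)
      · rw [mul_assoc, ← d.comm hu hp, ← mul_assoc, d.A_central h (d.UT hu) ha, mul_assoc]
      · exact le_inf (centralizer_le_pow (a * p) _) le_rfl
    have h1 : a ∈ A ⊓ P' := ⟨ha, by simpa using mul_mem hy' (inv_mem hp')⟩
    rw [d'.A_inf_P, mem_bot] at h1
    rwa [h1, one_mul]
  obtain ⟨u, hu', p, hp, e⟩ := d.exists_mul_U hx
  by_cases huA : u ∈ A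
  · exact hAP (e ▸ mul_mem (mem_sup_left huA) (mem_sup_right hp)) hx1 hm
  exfalso
  rcases d.types with ⟨hUA, -⟩ | hu
  · exact huA (hUA ▸ hu')
  have hx2 : x * x = u * u * (p * p) := by
    rw [e, Commute.mul_mul_mul_comm (show Commute p u from (d.comm hu' hp).symm)]
  have hu1 : u * u ≠ 1 := fun e' => huA (d.invU u hu' e')
  have hmem := hAP (hx2 ▸ mul_mem (mem_sup_left (hu.sq u hu')) (mem_sup_right (mul_mem hp hp)))
    (fun e' => by
      have e'' : u * u * (p * p) = 1 := hx2.symm.trans e'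
      have h1 : u * u ∈ U ⊓ P := ⟨U.mul_mem hu' hu', by
        rw [eq_inv_of_mul_eq_one_left e'']; exact P.inv_mem (P.mul_mem hp hp)⟩
      rw [d.disj, mem_bot] at h1
      exact hu1 h1)
    (by simpa [pow_two] using hm.pow 2)
  have h1 : u * u ∈ U ⊓ P := ⟨U.mul_mem hu' hu', by
    have h2 := P.mul_mem hmem (P.inv_mem (P.mul_mem hp hp))
    rwa [hx2, mul_inv_cancel_right] at h2⟩
  rw [d.disj, mem_bot] at h1
  exact hu1 h1

end CData

/-- No mobile involution is central in a Sylow subgroup. -/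
theorem Rk2.no_central (h : Rk2 G A) (hD : DataExists A) {S : Sylow 2 G} (hAS : A ≤ (S : Subgroup G)) {z : G}
    (hz : orderOf z = 2) (hzS : z ∈ (S : Subgroup G)) (hc : ∀ s ∈ (S : Subgroup G), s * z = z * s)
    (hm : Mobile A z) : False := by
  classical
  have hdata : ∀ {y : G}, y ∈ (S : Subgroup G) → orderOf y = 2 → (∀ s ∈ (S : Subgroup G), s * y = y * s) →
      Mobile A y → ∃ U P, CData A y (S : Subgroup G) U P := fun hy hy2 hyc hym =>
    haveI : Fact (Nat.Prime 2) := ⟨Nat.prime_two⟩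
    hD _ hy2 hym (fun a ha => mem_centralizer_singleton_iff.2 (hyc a (hAS ha))) S
      ((Fusion.sylIn_top S).mono (fun s hs => mem_centralizer_singleton_iff.2 (hyc s hs)) le_top) hAS
  by_cases hnp : ∀ y : G, y ∈ (S : Subgroup G) → y * y = 1 → (∀ s ∈ (S : Subgroup G), s * y = y * s) → y ∉ A →
      Mobile A y → ∀ b ∈ A, b ≠ 1 → ¬ Mobile A (y * b)
  swap
  · push Not at hnp
    obtain ⟨y, hyS, hy2, hyc, hyA, hym, b, hb, hb1, hyb⟩ := hnp
    haveI : Fact (Nat.Prime 2) := ⟨Nat.prime_two⟩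
    obtain ⟨U, P, d⟩ := hdata hyS (orderOf_eq_prime (by rw [pow_two, hy2]) fun e => hyA (e ▸ one_mem A)) hyc hym
    exact d.false_of_pair h hD hb hb1 hyb
  obtain ⟨U, P, d⟩ := hdata hzS hz hc hm
  have hP : Cfsg.IsStronglyClosed P (S : Subgroup G) := by
    refine ⟨d.PT, fun p hp g hg => ?_⟩
    by_cases hp1 : p = 1
    · rw [hp1]; group; exact one_mem P
    obtain ⟨n, hn, he⟩ := h.fuse hAS (D := {p}) (Set.singleton_subset_iff.2 (d.PT hp)) (g := g)
      (fun y hy => by rw [Set.mem_singleton_iff.1 hy]; exact hg)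
    have he := he p rfl
    rw [← he] at hg ⊢
    have hwm := (d.mobile_of_mem hp).conj hn
    have hw1 : n * p * n⁻¹ ≠ 1 := fun e => hp1 (conj_eq_one_iff.1 e)
    by_cases hwo : n * p * n⁻¹ ∈ U ⊔ P
    · exact d.mobile_mem h hD hnp hwo hw1 hwm
    exfalso
    rcases d.types with ⟨-, hT⟩ | hu
    · exact hwo (sup_le_sup_right d.AU P (hT ▸ hg))
    set w := n * p * n⁻¹ with hw
    have hw2m : w * w ∈ U ⊔ P := d.outside_mul h hu hg hwo hg hwo
    have hw2 : w * w ∈ A ⊔ P := by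
      by_cases h1 : w * w = 1
      · rw [h1]; exact one_mem _
      · exact mem_sup_right (d.mobile_mem h hD hnp hw2m h1 (by simpa [pow_two] using hwm.pow 2))
    obtain ⟨u, hu', hc1, hc2⟩ := d.exists_move h hu hg hwo hw2
    set c := w⁻¹ * (u * w * u⁻¹) with hc
    have hcA : c ∈ A := by
      have h1 := inv_mem hc1
      rw [show (w * u * w⁻¹ * u⁻¹)⁻¹ = u * w * u⁻¹ * w⁻¹ by group] at h1
      rw [hc, show w⁻¹ * (u * w * u⁻¹) = w⁻¹ * (u * w * u⁻¹ * w⁻¹ * w) by group, d.A_central h hg h1,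
        inv_mul_cancel_left]
      exact h1
    have hc1' : c ≠ 1 := fun e => hc2 (by
      rw [hc, inv_mul_eq_one] at e
      rw [mul_inv_eq_one, mul_inv_eq_iff_eq_mul]
      have := congrArg (fun y => y * u) e
      simpa [mul_assoc] using this)
    have hwc : Mobile A (w * c) := by
      rw [hc, mul_inv_cancel_left]
      exact hwm.conj (h.hyp.sc.le_normalizer hAS (d.UT hu'))
    have hc'A : n⁻¹ * c * n ∈ A := by simpa using conj_mem (inv_mem hn) hcA
    have hpc : p * (n⁻¹ * c * n) ∈ A ⊔ P := mul_mem (mem_sup_right hp) (mem_sup_left hc'A)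
    have hpm : Mobile A (p * (n⁻¹ * c * n)) := by
      have h1 := hwc.conj (inv_mem hn)
      rwa [show n⁻¹ * (w * c) * n⁻¹⁻¹ = p * (n⁻¹ * c * n) by rw [hw]; group] at h1
    have hc'1 : n⁻¹ * c * n ≠ 1 := fun e => hc1' (by
      have := congrArg (fun y => n * y * n⁻¹) e
      simpa [mul_assoc] using this)
    have hne : p * (n⁻¹ * c * n) ≠ 1 := fun e => hp1 (by
      have h1 : p ∈ A ⊓ P := ⟨by rw [eq_inv_of_mul_eq_one_left e]; exact A.inv_mem hc'A, hp⟩
      rwa [d.A_inf_P, mem_bot] at h1)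
    have hmem := d.mobile_mem h hD hnp (sup_le_sup_right d.AU P hpc) hne hpm
    have h1 : n⁻¹ * c * n ∈ A ⊓ P := ⟨hc'A, by simpa [mul_assoc] using mul_mem (inv_mem hp) hmem⟩
    rw [d.A_inf_P, mem_bot] at h1
    exact hc'1 h1
  have := h.no_closed hAS hP d.A_inf_P
  exact d.ne_one (mem_bot.1 (this ▸ d.mem))

end Cfsg.Agent.Goldschmidt
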