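import Cfsg.Agent.Lib.Goldschmidt.RankTwo.Setup

/-!
# Rank two: the facts at a mobile involution

`CData A z T U P`: `T` is a Sylow 2-subgroup of the centraliser of `z`, `U` and `P` are its parts in the component
moved by `A` and in the centraliser of this component.
-/

set_option autoImplicit false
set_option linter.style.haveILetI false
set_option linter.unusedSectionVars false

namespace Cfsg.Agent.Goldschmidt

open Subgroup
open Cfsg.Agent.Local.SCA (SC conj_mem)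

universe u

variable {G : Type u} [Group G] [Finite G] {A : Subgroup G}

/-- The component has Sylow 2-subgroups of order 64. -/
structure UType (A : Subgroup G) (z : G) (T U P : Subgroup G) : Prop where
  card : Nat.card U = 64
  sq : ∀ u ∈ U, u * u ∈ A
  comm : ∀ u ∈ U, ∀ v ∈ U, u * v * u⁻¹ * v⁻¹ ∈ A
  five : ∃ f : G, f ∈ centralizer ({z} : Set G) ∧ f ∈ centralizer (A : Set G) ∧ f ∈ centralizer (P : Set G) ∧
    f ∈ normalizer (U : Set G) ∧ (∃ k : ℕ, f ^ 5 ^ k = 1) ∧ ∀ u ∈ U, f * u * f⁻¹ * u⁻¹ ∈ A → u ∈ A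
  inner : ∀ x ∈ T, (∀ u ∈ U, x * u * x⁻¹ * u⁻¹ ∈ A) → x ∈ U ⊔ P

/-- The facts at a mobile involution. -/
structure CData (A : Subgroup G) (z : G) (T U P : Subgroup G) : Prop where
  invol : orderOf z = 2
  le_cent : A ≤ centralizer ({z} : Set G)
  syl : Fusion.SylIn 2 T (centralizer ({z} : Set G))
  AU : A ≤ U
  UT : U ≤ T
  PT : P ≤ T
  mem : z ∈ P
  normU : T ≤ normalizer (U : Set G)
  normP : T ≤ normalizer (P : Set G)
  disj : U ⊓ P = ⊥
  invU : ∀ u ∈ U, u * u = 1 → u ∈ A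
  types : (U = A ∧ T = A ⊔ P) ∨ UType A z T U P
  move : ¬ Still A (centralizer ({z} : Set G) ⊓ centralizer (P : Set G))
  kill : ∀ a ∈ A, a ≠ 1 → ∀ p ∈ P, Still A (centralizer ({z} : Set G) ⊓ centralizer ({a * p} : Set G))
  lift : ∃ L : Subgroup G, centralizer ({z} : Set G) ≤ normalizer (L : Set G) ∧ U = T ⊓ L
  turn : ∃ r : G, r ∈ centralizer ({z} : Set G) ∧ r ∈ normalizer (A : Set G) ∧ r ∈ normalizer (T : Set G) ∧
    r ∈ normalizer (U : Set G) ∧ r ∈ centralizer (P : Set G) ∧ r ∉ centralizer (A : Set G) ∧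
    ∃ k : ℕ, r ^ 3 ^ k = 1

namespace CData

variable {z : G} {T U P : Subgroup G} (d : CData A z T U P)
include d

theorem AT : A ≤ T := d.AU.trans d.UT

theorem ne_one : z ≠ 1 := fun e => by simpa [e] using d.invol

theorem sq_one : z * z = 1 := by rw [← pow_two, ← d.invol, pow_orderOf_eq_one]

theorem isPGroup : IsPGroup 2 T := d.syl.isPGroup

theorem comm {u p : G} (hu : u ∈ U) (hp : p ∈ P) : u * p = p * u := by
  have h1 : u * p * u⁻¹ * p⁻¹ ∈ U ⊓ P := by
    refine ⟨?_, P.mul_mem (conj_mem (d.normP (d.UT hu)) hp) (inv_mem hp)⟩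
    rw [show u * p * u⁻¹ * p⁻¹ = u * (p * u⁻¹ * p⁻¹) by group]
    exact U.mul_mem hu (conj_mem (d.normU (d.PT hp)) (inv_mem hu))
  rw [d.disj, mem_bot, mul_inv_eq_one, mul_inv_eq_iff_eq_mul] at h1
  exact h1

theorem A_inf_P : A ⊓ P = ⊥ := le_bot_iff.1 ((inf_le_inf_right P d.AU).trans d.disj.le)

theorem exists_mul {x : G} (hx : x ∈ A ⊔ P) : ∃ a ∈ A, ∃ p ∈ P, x = a * p := by
  rw [← SetLike.mem_coe, coe_mul_of_left_le_normalizer_right _ _ (d.AT.trans d.normP)] at hx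
  obtain ⟨a, ha, p, hp, e⟩ := hx
  exact ⟨a, ha, p, hp, e.symm⟩

theorem exists_mul_U {x : G} (hx : x ∈ U ⊔ P) : ∃ u ∈ U, ∃ p ∈ P, x = u * p := by
  rw [← SetLike.mem_coe, coe_mul_of_left_le_normalizer_right _ _ (d.UT.trans d.normP)] at hx
  obtain ⟨u, hu, p, hp, e⟩ := hx
  exact ⟨u, hu, p, hp, e.symm⟩

theorem mobile : Mobile A z := fun hs => d.move (hs.mono inf_le_left)

theorem mobile_of_mem {p : G} (hp : p ∈ P) : Mobile A p := fun hs =>
  d.move (hs.mono (inf_le_right.trans (centralizer_le (Set.singleton_subset_iff.2 hp))))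

/-- An element of `A P` with a mobile joint centraliser lies in `P`. -/
theorem mem_P {x : G} (hx : x ∈ A ⊔ P)
    (hm : ¬ Still A (centralizer ({z} : Set G) ⊓ centralizer ({x} : Set G))) : x ∈ P := by
  obtain ⟨a, ha, p, hp, rfl⟩ := d.exists_mul hx
  by_cases ha1 : a = 1
  · rwa [ha1, one_mul]
  · exact absurd (d.kill a ha ha1 p hp) hm

theorem notA : z ∉ A := fun e => by
  have : z ∈ A ⊓ P := ⟨e, d.mem⟩
  rw [d.A_inf_P, mem_bot] at this
  exact d.ne_one this

end CData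

end Cfsg.Agent.Goldschmidt
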