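import Cfsg.Agent.Lib.Goldschmidt.RankTwo.Central

/-!
# Rank two: good mobile involutions

A Sylow subgroup `T` of the centraliser of a mobile involution is not a Sylow subgroup of the group.  The data are
good if the part `P` meets its conjugates under `N(T)` trivially; then `A P` is elementary of order at most 16 and
central in `T`.  A maximal `T` gives good data.
-/

set_option autoImplicit false
set_option linter.style.haveILetI false
set_option linter.unusedSectionVars false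

namespace Cfsg.Agent.Goldschmidt

open Subgroup
open Cfsg.Agent.Local.SCA (SC conj_mem)

universe u

variable {G : Type u} [Group G] [Finite G] {A : Subgroup G}

/-- Good data. -/
structure Good (A : Subgroup G) (z : G) (T U P : Subgroup G) : Prop where
  data : CData A z T U P
  disjS : ∀ s : G, IsPGroup 2 ↥(T ⊔ zpowers s) → s ∈ normalizer (T : Set G) → s ∉ T → s * s ∈ T →
    P ⊓ Fusion.cj P s = ⊥

/-- Data at a largest Sylow subgroup, with `P` then as large as possible. -/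
structure Top (A : Subgroup G) (z : G) (T U P : Subgroup G) : Prop where
  data : CData A z T U P
  max : ∀ {w : G}, orderOf w = 2 → Mobile A w → ∀ D : Subgroup G, IsPGroup 2 D → A ≤ D →
    D ≤ centralizer ({w} : Set G) → Nat.card D ≤ Nat.card T
  maxP : ∀ {w : G} {T' U' P' : Subgroup G}, CData A w T' U' P' → Nat.card T ≤ Nat.card T' →
    Nat.card P' ≤ Nat.card P

namespace CData

variable {z : G} {T U P : Subgroup G} (h : Rk2 G A) (hD : DataExists A) (d : CData A z T U P)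
include h d

omit h in
theorem card_UP : Nat.card ↥(U ⊔ P) = Nat.card U * Nat.card P := by
  have h1 := Solv.card_sup_mul_card_inf' P U (d.UT.trans d.normP)
  rw [inf_comm, d.disj, Subgroup.card_bot, mul_one, sup_comm] at h1
  rw [h1, mul_comm]

/-- A component of type `L` has no square in `A` other than one. -/
theorem uType_of_sq {u : G} (hu : u ∈ T) (h2 : u * u ∈ A) (hne : u * u ≠ 1) : UType A z T U P := by
  rcases d.types with ⟨-, hT⟩ | hU
  · exfalso
    obtain ⟨a, ha, p, hp, rfl⟩ := d.exists_mul (hT ▸ hu)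
    have e : a * p * (a * p) = p * p := by
      rw [show a * p * (a * p) = a * (p * a) * p by group, ← d.A_central h (d.PT hp) ha, ← mul_assoc, h.sq ha,
        one_mul]
    have h1 : a * p * (a * p) ∈ A ⊓ P := ⟨h2, e ▸ P.mul_mem hp hp⟩
    rw [d.A_inf_P, mem_bot] at h1
    exact hne h1
  · exact hU

/-- The type passes up along inclusions of `U`. -/
theorem uType_of_le (hu : UType A z T U P) {w : G} {T' U' P' : Subgroup G} (d' : CData A w T' U' P')
    (hUT : U ≤ T') : UType A w T' U' P' := by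
  obtain ⟨u, huU, huA⟩ := SetLike.not_le_iff_exists.1 (show ¬ U ≤ A from fun hle => by
    have := Subgroup.card_le_of_le hle
    rw [hu.card, h.four] at this
    omega)
  exact d'.uType_of_sq h (hUT huU) (hu.sq u huU) fun e => huA (d.invU u huU e)

theorem card_T_le : Nat.card T ≤ 2 * (Nat.card U * Nat.card P) := by
  rw [← d.card_UP]
  rcases d.types with ⟨hU, hT⟩ | hu
  · rw [hT, hU]
    omega
  by_cases hle : T ≤ U ⊔ P
  · have := Subgroup.card_le_of_le hle
    omega
  obtain ⟨y, hy, hyo⟩ := SetLike.not_le_iff_exists.1 hle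
  have hsub : U ⊔ P ≤ T := sup_le d.UT d.PT
  have hi : ((U ⊔ P).subgroupOf T).index = 2 := by
    refine Subgroup.index_eq_two_iff.2 ⟨⟨y, hy⟩, fun b => ?_⟩
    by_cases hb : b ∈ (U ⊔ P).subgroupOf T
    · refine Or.inr ⟨hb, fun hby => hyo ?_⟩
      have := mul_mem (inv_mem hb) hby
      rwa [inv_mul_cancel_left] at this
    · exact Or.inl ⟨d.outside_mul h hu b.2 hb hy hyo, hb⟩
  have h2 := ((U ⊔ P).subgroupOf T).card_mul_index
  rw [hi, Nat.card_congr (Subgroup.subgroupOfEquivOfLe hsub).toEquiv] at h2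
  omega

/-- A conjugate of `U` by a normaliser of everything is `U`. -/
theorem eq_of_lift (hu : UType A z T U P) {U' L K : Subgroup G} {ff : G} (hfA : ff ∈ centralizer (A : Set G))
    (hfU : ff ∈ normalizer (U : Set G)) {k : ℕ} (hk : ff ^ 5 ^ k = 1)
    (hfp : ∀ u ∈ U, ff * u * ff⁻¹ * u⁻¹ ∈ A → u ∈ A) (hfL : ff ∈ normalizer (L : Set G)) (hAU : A ≤ U')
    (hc : Nat.card U' = 64) (hcap : U' ⊓ U = L ⊓ U) (hn : U' ≤ normalizer (U : Set G)) (hUK : U ≤ K)
    (hUK' : U' ≤ K) (hK : Nat.card K < 1024) : U' = U := by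
  rcases d.gen h hu hfA hfU hk hfp (le_inf hAU d.AU) inf_le_right (fun x hx => by
    rw [hcap] at hx ⊢
    exact ⟨conj_mem hfL hx.1, conj_mem hfU hx.2⟩) with hle | heq
  · exfalso
    have h1 := Solv.card_sup_mul_card_inf' U U' hn
    have h4 := Subgroup.card_le_of_le (show U ⊓ U' ≤ A from inf_comm U U' ▸ hle)
    rw [h.four] at h4
    rw [hu.card, hc] at h1
    have := Subgroup.card_le_of_le (sup_le hUK hUK')
    nlinarith
  · exact (Subgroup.eq_of_le_of_card_ge (inf_eq_right.1 heq) (by rw [hc, hu.card])).symm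

include hD

/-- `T` is not a Sylow subgroup of `G`. -/
theorem exists_normalising : ∃ s : G, IsPGroup 2 ↥(T ⊔ zpowers s) ∧ s ∈ normalizer (T : Set G) ∧ s ∉ T ∧
    s * s ∈ T := by
  classical
  haveI : Fact (Nat.Prime 2) := ⟨Nat.prime_two⟩
  obtain ⟨S, hTS⟩ := d.isPGroup.exists_le_sylow
  have hne : T ≠ (S : Subgroup G) := fun e => h.no_central hD (d.AT.trans hTS) d.invol (hTS (d.PT d.mem))
    (fun s hs => mem_centralizer_singleton_iff.1 (d.syl.le (e ▸ hs))) d.mobile
  obtain ⟨y, ⟨hyS, hyN⟩, hyT⟩ := SetLike.exists_of_lt (Fusion.SylIn.normalizer_growth hTS hne S.isPGroup')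
  obtain ⟨k, hk⟩ := IsPGroup.iff_orderOf.1 S.isPGroup' ⟨y, hyS⟩
  rw [orderOf_mk] at hk
  have hex : ∃ j, y ^ 2 ^ j ∈ T := ⟨k, by rw [← hk, pow_orderOf_eq_one]; exact one_mem T⟩
  have hj0 : Nat.find hex ≠ 0 := fun e => hyT (by simpa [e] using Nat.find_spec hex)
  obtain ⟨j, hj⟩ : ∃ j, Nat.find hex = j + 1 := ⟨Nat.find hex - 1, by omega⟩
  refine ⟨y ^ 2 ^ j, S.isPGroup'.to_le (sup_le hTS (zpowers_le.2 (pow_mem hyS _))), pow_mem hyN _,
    Nat.find_min hex (by omega), ?_⟩
  have := Nat.find_spec hex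
  rwa [hj, pow_succ, pow_mul, pow_two] at this

omit hD in
/-- A failure of goodness gives a mobile involution with a larger centraliser. -/
theorem exists_larger {s : G} (hp : IsPGroup 2 ↥(T ⊔ zpowers s)) (hsN : s ∈ normalizer (T : Set G)) (hsT : s ∉ T)
    (hs2 : s * s ∈ T) (hne : P ⊓ Fusion.cj P s ≠ ⊥) :
    ∃ p ∈ P, orderOf p = 2 ∧ ∃ R : Subgroup G, IsPGroup 2 R ∧ T < R ∧ R ≤ centralizer ({p} : Set G) := by
  have hlt : T < T ⊔ zpowers s :=
    lt_of_le_not_ge le_sup_left fun hle => hsT (hle (mem_sup_right (mem_zpowers s)))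
  have hTn : T ≤ normalizer ((P ⊓ Fusion.cj P s : Subgroup G) : Set G) := fun t ht =>
    mem_normalizer_fintype fun x hx => ⟨conj_mem (d.normP ht) hx.1, conj_mem
      ((Fusion.cj_normalizer (H := P) (g := s) ▸ Fusion.cj_mono d.normP s)
        (by rw [Fusion.cj_eq_self hsN]; exact ht)) hx.2⟩
  have hsn : s ∈ normalizer ((P ⊓ Fusion.cj P s : Subgroup G) : Set G) := mem_normalizer_fintype fun x hx => by
    refine ⟨?_, Fusion.conj_mem_cj hx.1⟩
    obtain ⟨y, hy, e⟩ := hx.2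
    rw [← e]
    show s * (s * y * s⁻¹) * s⁻¹ ∈ P
    rw [show s * (s * y * s⁻¹) * s⁻¹ = s * s * y * (s * s)⁻¹ by group]
    exact conj_mem (d.normP hs2) hy
  obtain ⟨p, hpN, hp2, hpc⟩ := exists_fixed_involution (P := T ⊔ zpowers s) hp
    ((inf_le_left.trans d.PT).trans le_sup_left) (sup_le hTn (zpowers_le.2 hsn)) hne
  exact ⟨p, hpN.1, hp2, _, hp, hlt, fun x hx => mem_centralizer_singleton_iff.2 (hpc x hx)⟩

/-- Every data lie under good ones. -/
theorem exists_good : ∃ (z' : G) (T' U' P' : Subgroup G), Good A z' T' U' P' ∧ T ≤ T' := by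
  suffices H : ∀ (n : ℕ) {z : G} {T U P : Subgroup G}, CData A z T U P → Nat.card G ≤ Nat.card T + n →
      ∃ (z' : G) (T' U' P' : Subgroup G), Good A z' T' U' P' ∧ T ≤ T' from H _ d (Nat.le_add_left _ _)
  intro n
  induction n using Nat.strong_induction_on with
  | _ n ih =>
    intro z T U P d hn
    by_cases hg : ∀ s : G, IsPGroup 2 ↥(T ⊔ zpowers s) → s ∈ normalizer (T : Set G) → s ∉ T → s * s ∈ T →
        P ⊓ Fusion.cj P s = ⊥
    · exact ⟨z, T, U, P, ⟨d, hg⟩, le_rfl⟩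
    push Not at hg
    obtain ⟨s, hp, hsN, hsT, hs2, hne⟩ := hg
    obtain ⟨p, hpP, hp2, R, hR, hlt, hRC⟩ := d.exists_larger h hp hsN hsT hs2 hne
    haveI : Fact (Nat.Prime 2) := ⟨Nat.prime_two⟩
    obtain ⟨T', hT', hle⟩ := Fusion.exists_sylIn_ge hR hRC
    have hAT' : A ≤ T' := (d.AT.trans hlt.le).trans hle
    obtain ⟨U', P', d'⟩ := hD p hp2 (d.mobile_of_mem hpP) (hAT'.trans hT'.le) T' hT' hAT'
    have hcard : Nat.card T < Nat.card T' :=
      lt_of_lt_of_le (Set.ncard_lt_ncard (SetLike.coe_ssubset_coe.2 hlt) (Set.toFinite _))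
        (Subgroup.card_le_of_le hle)
    have hG := Subgroup.card_le_card_group T'
    obtain ⟨z'', T'', U'', P'', hgood, hle'⟩ := ih (n - 1) (by omega) d' (by omega)
    exact ⟨z'', T'', U'', P'', hgood, (hlt.le.trans hle).trans hle'⟩

end CData

namespace Good

variable {z : G} {T U P : Subgroup G} (h : Rk2 G A) (hD : DataExists A) (d : Good A z T U P)
include h hD d

/-- The shift: an element outside `T` moving every element of `P` inside its coset of `A`. -/
theorem exists_shift : ∃ s : G, IsPGroup 2 ↥(T ⊔ zpowers s) ∧ s ∈ normalizer (T : Set G) ∧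
    s ∈ centralizer (A : Set G) ∧ ∀ p ∈ P, s * p * s⁻¹ * p⁻¹ ∈ A ∧ (s * p * s⁻¹ * p⁻¹ = 1 → p = 1) ∧ p * p = 1 ∧
      ∀ t ∈ T, t * p = p * t := by
  obtain ⟨s, hp, hsN, hsT, hs2⟩ := d.data.exists_normalising h hD
  have hdis := d.disjS s hp hsN hsT hs2
  have c := d.data
  have hsA : s ∈ centralizer (A : Set G) :=
    h.central hp (c.AT.trans le_sup_left) (mem_sup_right (mem_zpowers s))
  have hconjA : ∀ a ∈ A, s * a * s⁻¹ = a := fun a ha => by
    rw [← mem_centralizer_iff.1 hsA a ha, mul_inv_cancel_right]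
  have hmem : ∀ {x : G}, x ∈ P → s * x * s⁻¹ ∈ Fusion.cj P s := fun hx => Fusion.conj_mem_cj hx
  have hTcj : T ≤ normalizer (Fusion.cj P s : Set G) := fun t ht =>
    (Fusion.cj_normalizer (H := P) (g := s) ▸ Fusion.cj_mono c.normP s) (by rw [Fusion.cj_eq_self hsN]; exact ht)
  have hle : ∀ x ∈ P, s * x * s⁻¹ ∈ A ⊔ P := fun x hx => by
    refine c.cent h (conj_mem hsN (c.PT hx)) fun u hu => ?_
    have h1 : s * x * s⁻¹ * u * (s * x * s⁻¹)⁻¹ * u⁻¹ ∈ U ⊓ Fusion.cj P s := by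
      refine ⟨U.mul_mem (conj_mem (c.normU (conj_mem hsN (c.PT hx))) hu) (U.inv_mem hu), ?_⟩
      rw [show s * x * s⁻¹ * u * (s * x * s⁻¹)⁻¹ * u⁻¹ = s * x * s⁻¹ * (u * (s * x * s⁻¹)⁻¹ * u⁻¹) by group]
      exact mul_mem (hmem hx) (conj_mem (hTcj (c.UT hu)) (inv_mem (hmem hx)))
    have hbot : U ⊓ Fusion.cj P s = ⊥ := by
      by_contra hne
      obtain ⟨i, hi, hi2, -⟩ := exists_fixed_involution (c.isPGroup.to_le (inf_le_left.trans c.UT)) le_rfl
        Subgroup.le_normalizer hne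
      obtain ⟨y, hy, e⟩ := hi.2
      have hiA : i ∈ A := c.invU i hi.1 (by rw [← pow_two, ← hi2, pow_orderOf_eq_one])
      have e' : s * y * s⁻¹ = i := e
      have hyi : y = i := by
        have := hconjA i hiA
        rw [← e'] at this ⊢
        exact (mul_left_cancel (mul_right_cancel this)).symm
      have : i ∈ A ⊓ P := ⟨hiA, hyi ▸ hy⟩
      rw [c.A_inf_P, mem_bot] at this
      simp [this] at hi2
    rw [hbot, mem_bot, mul_inv_eq_one, mul_inv_eq_iff_eq_mul] at h1
    exact h1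
  have hdis' : ∀ {x : G}, x ∈ P → x ∈ Fusion.cj P s → x = 1 := fun {x} h1 h2 => by
    have : x ∈ P ⊓ Fusion.cj P s := ⟨h1, h2⟩
    rwa [hdis, mem_bot] at this
  have hinv : ∀ x ∈ P, x * x = 1 := by
    intro x hx
    obtain ⟨a, ha, q, hq, e⟩ := c.exists_mul (hle x hx)
    have h1 : s * (x * x) * s⁻¹ = q * q := by
      rw [show s * (x * x) * s⁻¹ = s * x * s⁻¹ * (s * x * s⁻¹) by group, e,
        show a * q * (a * q) = a * (q * a) * q by group, ← c.A_central h (c.PT hq) ha, ← mul_assoc, h.sq ha, one_mul]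
    have h2 := hdis' (h1.symm ▸ P.mul_mem hq hq) (hmem (P.mul_mem hx hx))
    exact conj_eq_one_iff.1 h2
  have hcen : ∀ x ∈ P, ∀ t ∈ T, t * x = x * t := by
    intro x hx t ht
    obtain ⟨a, ha, q, hq, e⟩ := c.exists_mul (hle x hx)
    set t' := s * t * s⁻¹ with ht'
    have ht'T : t' ∈ T := conj_mem hsN ht
    have h1 : s * (t * x * t⁻¹ * x⁻¹) * s⁻¹ = t' * q * t'⁻¹ * q⁻¹ := by
      calc s * (t * x * t⁻¹ * x⁻¹) * s⁻¹ = t' * (s * x * s⁻¹) * t'⁻¹ * (s * x * s⁻¹)⁻¹ := by rw [ht']; group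
        _ = t' * a * (q * t'⁻¹ * q⁻¹) * a⁻¹ := by rw [e]; group
        _ = a * t' * (q * t'⁻¹ * q⁻¹) * a⁻¹ := by rw [c.A_central h ht'T ha]
        _ = a * (t' * q * t'⁻¹ * q⁻¹) * a⁻¹ := by group
        _ = _ := by rw [c.A_central h (T.mul_mem (T.mul_mem (T.mul_mem ht'T (c.PT hq)) (T.inv_mem ht'T)) (T.inv_mem (c.PT hq))) ha, mul_inv_cancel_right]
    have h2 := hdis' (h1.symm ▸ P.mul_mem (conj_mem (c.normP ht'T) hq) (P.inv_mem hq))
      (hmem (P.mul_mem (conj_mem (c.normP ht) hx) (P.inv_mem hx)))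
    exact mul_inv_eq_iff_eq_mul.1 (mul_inv_eq_one.1 (conj_eq_one_iff.1 h2))
  refine ⟨s, hp, hsN, hsA, fun x hx => ?_⟩
  obtain ⟨a, ha, q, hq, e⟩ := c.exists_mul (hle x hx)
  -- `x q` is fixed
  have hq' : s * q * s⁻¹ = a * x := by
    have h1 : s * s * x * (s * s)⁻¹ = x := by rw [hcen x hx _ hs2, mul_inv_cancel_right]
    have h2 : a * (s * q * s⁻¹) = x := by
      calc a * (s * q * s⁻¹) = s * a * s⁻¹ * (s * q * s⁻¹) := by rw [hconjA a ha]
        _ = s * (s * x * s⁻¹) * s⁻¹ := by rw [e]; group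
        _ = s * s * x * (s * s)⁻¹ := by group
        _ = x := h1
    have h3 := congrArg (fun y => a * y) h2
    simp only [← mul_assoc, h.sq ha, one_mul] at h3
    simpa [mul_assoc] using h3
  have hfix : s * (x * q) * s⁻¹ = x * q := by
    rw [show s * (x * q) * s⁻¹ = s * x * s⁻¹ * (s * q * s⁻¹) by group, e, hq',
      show a * q * (a * x) = a * (q * a) * x by group, ← c.A_central h (c.PT hq) ha, ← mul_assoc, h.sq ha, one_mul,
      hcen x hx q (c.PT hq)]
  have hxq := hdis' (P.mul_mem hx hq) (hfix ▸ hmem (P.mul_mem hx hq))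
  have hqx : q = x := by
    rw [eq_inv_of_mul_eq_one_right hxq]
    exact inv_eq_of_mul_eq_one_left (hinv x hx)
  subst hqx
  refine ⟨?_, fun h1 => ?_, hinv q hx, hcen q hx⟩
  · rw [e, mul_inv_cancel_right]; exact ha
  · rw [mul_inv_eq_one] at h1
    exact hdis' hx (h1 ▸ hmem hx)

theorem sq {p : G} (hp : p ∈ P) : p * p = 1 := by
  obtain ⟨s, -, -, -, hs⟩ := d.exists_shift h hD
  exact (hs p hp).2.2.1

theorem central {p : G} (hp : p ∈ P) {t : G} (ht : t ∈ T) : t * p = p * t := by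
  obtain ⟨s, -, -, -, hs⟩ := d.exists_shift h hD
  exact (hs p hp).2.2.2 t ht

theorem card_P : Nat.card P ≤ 4 := by
  obtain ⟨s, -, -, hsA, hs⟩ := d.exists_shift h hD
  rw [← h.four]
  refine Nat.card_le_card_of_injective (fun p : P => (⟨_, (hs p p.2).1⟩ : A)) fun p q e => ?_
  have e' : s * p * s⁻¹ * (p : G)⁻¹ = s * q * s⁻¹ * (q : G)⁻¹ := congrArg Subtype.val e
  have hqi : (q : G)⁻¹ = q := inv_eq_of_mul_eq_one_left (d.sq h hD q.2)
  have h1 := (hs (p * q) (P.mul_mem p.2 q.2)).2.1 (by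
    calc s * ((p : G) * q) * s⁻¹ * ((p : G) * q)⁻¹
        = s * p * s⁻¹ * (s * q * s⁻¹ * (q : G)⁻¹) * (p : G)⁻¹ := by group
      _ = s * p * s⁻¹ * ((p : G)⁻¹ * (s * q * s⁻¹ * (q : G)⁻¹)) := by
          rw [mul_assoc, d.data.A_central h (T.inv_mem (d.data.PT p.2)) (hs q q.2).1]
      _ = s * p * s⁻¹ * (p : G)⁻¹ * (s * p * s⁻¹ * (p : G)⁻¹) := by rw [← e']; group
      _ = 1 := h.sq (hs p p.2).1)
  exact Subtype.ext (by rw [eq_inv_of_mul_eq_one_left h1, hqi])

theorem mem_E {x : G} (hx : x ∈ A ⊔ P) : x * x = 1 ∧ ∀ t ∈ T, t * x = x * t := by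
  obtain ⟨a, ha, p, hp, rfl⟩ := d.data.exists_mul hx
  refine ⟨?_, fun t ht => ?_⟩
  · rw [show a * p * (a * p) = a * (p * a) * p by group, ← d.data.A_central h (d.data.PT hp) ha, ← mul_assoc,
      h.sq ha, one_mul, d.sq h hD hp]
  · rw [← mul_assoc, ← d.data.A_central h ht ha, mul_assoc, d.central h hD hp ht, mul_assoc]

omit hD in
theorem card_E : Nat.card ↥(A ⊔ P) = 4 * Nat.card P := by
  have h1 := Solv.card_sup_mul_card_inf' P A (d.data.AT.trans d.data.normP)
  rw [inf_comm, d.data.A_inf_P, Subgroup.card_bot, mul_one, sup_comm, h.four] at h1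
  rw [h1, mul_comm]

/-- The order of `T` is at most 512. -/
theorem card_T : Nat.card T ≤ 512 := by
  have h1 := d.data.card_T_le h
  have h2 := d.card_P h hD
  have h3 : Nat.card U ≤ 64 := by
    rcases d.data.types with ⟨hU, -⟩ | hu
    · rw [hU, h.four]; norm_num
    · rw [hu.card]
  nlinarith

end Good

namespace Top

variable {z : G} {T U P : Subgroup G} (h : Rk2 G A) (hD : DataExists A) (d : Top A z T U P)
include h d

theorem good : Good A z T U P := by
  refine ⟨d.data, fun s hp hsN hsT hs2 => ?_⟩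
  by_contra hne
  obtain ⟨p, hpP, hp2, R, hR, hlt, hRC⟩ := d.data.exists_larger h hp hsN hsT hs2 hne
  have := Set.ncard_lt_ncard (SetLike.coe_ssubset_coe.2 hlt) (Set.toFinite _)
  exact absurd (d.max hp2 (d.data.mobile_of_mem hpP) R hR (d.data.AT.trans hlt.le) hRC) (not_le.2 this)

include hD

/-- If the largest has type `L`, all have. -/
theorem sameL {w : G} {T' U' P' : Subgroup G} (d' : CData A w T' U' P') : U = A → U' = A := by
  intro hUA
  rcases d'.types with ⟨e, -⟩ | hu'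
  · exact e
  exfalso
  have h1 := d.max d'.invol d'.mobile T' d'.isPGroup d'.AT d'.syl.le
  have h2 := d.data.card_T_le h
  have h3 := (d.good h).card_P h hD
  have h4 := Subgroup.card_le_of_le d'.UT
  rw [hu'.card] at h4
  rw [hUA, h.four] at h2
  omega

/-- The bound on `P`. -/
theorem card_P_le {w : G} {T' U' P' : Subgroup G} (d' : CData A w T' U' P') (hUT : U ≤ T') :
    Nat.card P' ≤ Nat.card P := by
  have hmax := d.max d'.invol d'.mobile T' d'.isPGroup d'.AT d'.syl.le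
  rcases d.data.types with ⟨hUA, hT⟩ | hu
  · have hU' := d.sameL h hD d' hUA
    have h1 := d'.card_UP
    have h2 := d.data.card_UP
    rw [hU', h.four] at h1
    rw [hUA, h.four] at h2
    rw [hT, h2] at hmax
    rcases d'.types with ⟨-, hT'⟩ | hu'
    · rw [hT', h1] at hmax
      omega
    · have := hu'.card
      rw [hU', h.four] at this
      omega
  by_contra hlt
  have hu' := d.data.uType_of_le h hu d' hUT
  haveI : Fact (Nat.Prime 2) := ⟨Nat.prime_two⟩
  obtain ⟨i, hi⟩ := IsPGroup.iff_card.1 (d.data.isPGroup.to_le d.data.PT)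
  obtain ⟨j, hj⟩ := IsPGroup.iff_card.1 (d'.isPGroup.to_le d'.PT)
  have h2 : 2 * Nat.card P ≤ Nat.card P' := by
    rw [hi, hj] at hlt ⊢
    rw [← pow_succ']
    exact Nat.pow_le_pow_right (by norm_num) ((Nat.pow_lt_pow_iff_right (by norm_num)).1 (not_le.1 hlt))
  have h1 := d'.card_UP
  have h3 := Subgroup.card_le_of_le (sup_le d'.UT d'.PT)
  rw [hu'.card] at h1
  rw [h1] at h3
  have h4 := d.data.card_T_le h
  rw [hu.card] at h4
  exact hlt (d.maxP d' (by omega))

/-- What centralises `U` in another centraliser has order at most `|A P|`. -/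
theorem cent_card {w : G} {T' U' P' : Subgroup G} (d' : CData A w T' U' P') (hUT : U ≤ T') {D : Subgroup G}
    (hDT : D ≤ T') (hc : D ≤ centralizer (U : Set G)) : D ≤ A ⊔ P' ∧ Nat.card D ≤ Nat.card ↥(A ⊔ P) := by
  have hle : D ≤ A ⊔ P' := fun x hx => d.data.cent_transfer h d' (d.sameL h hD d') hUT (hDT hx)
    fun u hu => (mem_centralizer_iff.1 (hc hx) u hu).symm
  refine ⟨hle, (Subgroup.card_le_of_le hle).trans ?_⟩
  have h1 := Solv.card_sup_mul_card_inf' P' A (d'.AT.trans d'.normP)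
  rw [inf_comm, d'.A_inf_P, Subgroup.card_bot, mul_one, sup_comm, h.four] at h1
  rw [h1, (d.good h).card_E h, mul_comm 4 _]
  exact Nat.mul_le_mul_right _ (d.card_P_le h hD d' hUT)

omit d

/-- Largest data exist. -/
theorem exists_top {w : G} (hw : orderOf w = 2) (hm : Mobile A w) (hAC : A ≤ centralizer ({w} : Set G)) :
    ∃ (z : G) (T U P : Subgroup G), Top A z T U P := by
  classical
  haveI : Fact (Nat.Prime 2) := ⟨Nat.prime_two⟩
  let X := {x : G × Subgroup G × Subgroup G × Subgroup G // CData A x.1 x.2.1 x.2.2.1 x.2.2.2}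
  obtain ⟨T₀, hT₀, hle₀⟩ := Fusion.exists_sylIn_ge h.hyp.sc.isPGroup hAC
  obtain ⟨U₀, P₀, d₀⟩ := hD w hw hm hAC T₀ hT₀ hle₀
  haveI : Nonempty X := ⟨⟨(w, T₀, U₀, P₀), d₀⟩⟩
  let val : X → ℕ := fun x => Nat.card x.1.2.1 * (Nat.card G + 1) + Nat.card x.1.2.2.2
  obtain ⟨⟨⟨z, T, U, P⟩, d⟩, hmax⟩ := Finite.exists_max val
  refine ⟨z, T, U, P, d, ?_, ?_⟩
  · intro y hy hym D hD2 hAD hDC
    obtain ⟨T', hT', hle⟩ := Fusion.exists_sylIn_ge hD2 hDC
    obtain ⟨U', P', d'⟩ := hD y hy hym (hAD.trans hDC) T' hT' (hAD.trans hle)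
    have h1 : Nat.card T' * (Nat.card G + 1) + Nat.card P' ≤ Nat.card T * (Nat.card G + 1) + Nat.card P :=
      hmax ⟨(y, T', U', P'), d'⟩
    have h2 := Subgroup.card_le_card_group P
    have h3 := Subgroup.card_le_of_le hle
    by_contra hlt
    have : (Nat.card T + 1) * (Nat.card G + 1) ≤ Nat.card T' * (Nat.card G + 1) :=
      Nat.mul_le_mul_right _ (by omega)
    nlinarith
  · intro y T' U' P' d' hle
    have h1 : Nat.card T' * (Nat.card G + 1) + Nat.card P' ≤ Nat.card T * (Nat.card G + 1) + Nat.card P :=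
      hmax ⟨(y, T', U', P'), d'⟩
    have := Nat.mul_le_mul_right (Nat.card G + 1) hle
    omega

end Top

end Cfsg.Agent.Goldschmidt
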