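import Mathlib

/-!
# Sixteen vectors, three values, an element of order five

An exponent two group of order 16 with a fixed-point-free automorphism of 5-power order and an invariant map onto three
values has three orbits of length five; an automorphism preserving the map and fixing a vector fixes all or exactly
one vector of each value.
-/

set_option autoImplicit false
set_option linter.unusedSectionVars false
set_option linter.style.haveILetI false

namespace Cfsg.Agent.Goldschmidt

universe u v

variable {V : Type u} [Group V] {X : Type v}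

/-- The raw facts. -/
structure Pent (f : V ≃* V) (q : V → X) (W : Finset X) : Prop where
  card : Nat.card V = 16
  two : ∀ v : V, v * v = 1
  fpf : ∀ v : V, f v = v → v = 1
  pow : ∀ v : V, ∃ k : ℕ, f^[5 ^ k] v = v
  qf : ∀ v : V, q (f v) = q v
  mem : ∀ v : V, v ≠ 1 → q v ∈ W
  one : q 1 ∉ W
  three : W.card = 3
  onto : ∀ a ∈ W, ∃ v : V, q v = a

namespace Pent

variable {f : V ≃* V} {q : V → X} {W : Finset X} (h : Pent f q W)
include h

theorem comm (v w : V) : v * w = w * v := by
  have hi : ∀ x : V, x⁻¹ = x := fun x => inv_eq_of_mul_eq_one_left (h.two x)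
  rw [← hi (v * w), mul_inv_rev, hi, hi]

theorem q_it (i : ℕ) (v : V) : q (f^[i] v) = q v := by
  induction i with
  | zero => rfl
  | succ i ih => rw [Function.iterate_succ_apply', h.qf, ih]

theorem it_fixed {i : ℕ} (hi0 : 0 < i) (hi : i < 5) {v : V} (hv : f^[i] v = v) : v = 1 := by
  obtain ⟨k, hk⟩ := h.pow v
  have h1 : Function.IsPeriodicPt f (i.gcd (5 ^ k)) v := Function.IsPeriodicPt.gcd hv hk
  rw [Nat.Coprime.pow_right k ((Nat.coprime_comm.1 ((Nat.prime_five.coprime_iff_not_dvd).2
    (fun h5 => by have := Nat.le_of_dvd hi0 h5; omega))))] at h1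
  exact h.fpf v h1

theorem it_inj {i j : ℕ} (hi : i < 5) (hj : j < 5) {v : V} (hv : v ≠ 1) (e : f^[i] v = f^[j] v) : i = j := by
  wlog hij : i < j generalizing i j
  · rcases Nat.lt_or_ge j i with h1 | h1
    · exact (this hj hi e.symm h1).symm
    · omega
  exfalso
  refine hv (h.it_fixed (i := j - i) (by omega) (by omega) ((f.injective.iterate i) ?_))
  rw [← Function.iterate_add_apply, show i + (j - i) = j by omega, ← e]

/-- Every value is taken exactly along one orbit. -/
theorem orbit {v w : V} (hv : v ≠ 1) (hw : q w = q v) : ∃ i, i < 5 ∧ w = f^[i] v := by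
  classical
  haveI : Finite V := Nat.finite_of_card_ne_zero (by rw [h.card]; norm_num)
  haveI : Fintype V := Fintype.ofFinite V
  have hsum := Finset.card_eq_sum_card_fiberwise (f := q) (s := Finset.univ.erase (1 : V)) (t := W)
    fun x hx => h.mem x (Finset.mem_erase.1 hx).1
  rw [Finset.card_erase_of_mem (Finset.mem_univ _), Finset.card_univ, ← Nat.card_eq_fintype_card, h.card] at hsum
  set F : X → Finset V := fun a => (Finset.univ.erase (1 : V)).filter (fun x => q x = a) with hF
  have hsub : ∀ {x : V}, x ≠ 1 → (Finset.range 5).image (fun i => f^[i] x) ⊆ F (q x) := by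
    intro x hx y hy
    obtain ⟨i, -, rfl⟩ := Finset.mem_image.1 hy
    refine Finset.mem_filter.2 ⟨Finset.mem_erase.2 ⟨fun e => hx ?_, Finset.mem_univ _⟩, h.q_it i x⟩
    exact f.injective.iterate i (e.trans (Function.iterate_fixed (map_one f) i).symm)
  have hfive : ∀ {x : V}, x ≠ 1 → ((Finset.range 5).image fun i => f^[i] x).card = 5 := fun {x} hx => by
    rw [Finset.card_image_of_injOn fun i hi j hj e =>
      h.it_inj (Finset.mem_range.1 hi) (Finset.mem_range.1 hj) hx e, Finset.card_range]
  have hge : ∀ a ∈ W, 5 ≤ (F a).card := by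
    intro a ha
    obtain ⟨x, rfl⟩ := h.onto a ha
    have hx : x ≠ 1 := fun e => h.one (e ▸ ha)
    exact (hfive hx).ge.trans (Finset.card_le_card (hsub hx))
  have hva : q v ∈ W := h.mem v hv
  have hle : (F (q v)).card ≤ 5 := by
    have h1 := Finset.add_sum_erase W (fun a => (F a).card) hva
    have h2 : ∑ a ∈ W.erase (q v), 5 ≤ ∑ a ∈ W.erase (q v), (F a).card :=
      Finset.sum_le_sum fun a ha => hge a (Finset.mem_erase.1 ha).2
    rw [Finset.sum_const, Finset.card_erase_of_mem hva, h.three, smul_eq_mul] at h2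
    simp only [hF] at h1 h2 ⊢
    omega
  have heq := Finset.eq_of_subset_of_card_le (hsub hv) (hle.trans (hfive hv).ge)
  have hw1 : w ≠ 1 := fun e => h.one (e ▸ hw ▸ hva)
  have hmem : w ∈ F (q v) := Finset.mem_filter.2 ⟨Finset.mem_erase.2 ⟨hw1, Finset.mem_univ _⟩, hw⟩
  rw [← heq] at hmem
  obtain ⟨i, hi, e⟩ := Finset.mem_image.1 hmem
  exact ⟨i, Finset.mem_range.1 hi, e.symm⟩

theorem five (v : V) : f^[5] v = v := by
  by_cases hv : v = 1
  · rw [hv, Function.iterate_fixed (map_one f)]
  obtain ⟨i, hi, e⟩ := h.orbit hv (h.q_it 5 v)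
  rcases Nat.eq_zero_or_pos i with rfl | hi0
  · exact e
  refine absurd (h.it_fixed (i := 5 - i) (by omega) (by omega) ((f.injective.iterate i) ?_)) hv
  rw [← Function.iterate_add_apply, show i + (5 - i) = 5 by omega, e]

/-- The two kinds of pairs have different values. -/
theorem pair_ne {v : V} (hv : v ≠ 1) : q (v * f v) ≠ q (v * f (f v)) := by
  intro e
  have hne : v * f v ≠ 1 := fun e' => hv (h.fpf v (mul_left_cancel (e'.trans (h.two v).symm)))
  obtain ⟨i, hi, hw⟩ := h.orbit hne e.symm
  have inj : ∀ {i j : ℕ}, i < 5 → j < 5 → f^[i] v = f^[j] v → i = j := fun hi hj e' => h.it_inj hi hj hv e'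
  have h5 := h.five v
  simp only [Function.iterate_succ_apply, Function.iterate_zero_apply] at h5
  interval_cases i <;> simp only [Function.iterate_succ_apply, Function.iterate_zero_apply, map_mul] at hw
  · exact absurd (inj (i := 2) (j := 1) (by norm_num) (by norm_num) (mul_left_cancel hw)) (by norm_num)
  · rw [h.comm v, h.comm (f v)] at hw
    exact absurd (inj (i := 0) (j := 1) (by norm_num) (by norm_num) (mul_left_cancel hw)) (by norm_num)
  · rw [h.comm v] at hw
    exact absurd (inj (i := 0) (j := 3) (by norm_num) (by norm_num) (mul_left_cancel hw)) (by norm_num)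
  · set a := f (f (f v)) * f (f (f (f v))) with ha
    have hv' : v = a * f (f v) := by rw [← hw, mul_assoc, h.two, mul_one]
    have h1 := congrArg f hw
    rw [map_mul, map_mul, h5] at h1
    have hfv : f v = f (f v) := by
      calc f v = f v * f (f (f v)) * f (f (f v)) := by rw [mul_assoc, h.two, mul_one]
        _ = f (f (f (f v))) * v * f (f (f v)) := by rw [h1]
        _ = a * v := by rw [mul_assoc, h.comm v, ← mul_assoc, h.comm (f (f (f (f v))))]
        _ = a * (a * f (f v)) := by rw [← hv']
        _ = f (f v) := by rw [← mul_assoc, h.two, one_mul]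
    exact absurd (inj (i := 1) (j := 2) (by norm_num) (by norm_num) hfv) (by norm_num)
  · rw [h5, h.comm (f (f (f (f v))))] at hw
    exact absurd (inj (i := 2) (j := 4) (by norm_num) (by norm_num) (mul_left_cancel hw)) (by norm_num)

/-- An invariant subgroup other than `⊥` is everything. -/
theorem span (N : Subgroup V) (hNf : ∀ x ∈ N, f x ∈ N) {v : V} (hvN : v ∈ N) (hv : v ≠ 1) : N = ⊤ := by
  classical
  haveI : Finite V := Nat.finite_of_card_ne_zero (by rw [h.card]; norm_num)
  have hNi : ∀ x ∈ N, ∀ i, f^[i] x ∈ N := fun x hx i => by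
    induction i with
    | zero => exact hx
    | succ i ih => rw [Function.iterate_succ_apply']; exact hNf _ ih
  refine Subgroup.eq_top_of_le_card _ ?_
  haveI : Fintype V := Fintype.ofFinite V
  have hfin : ∀ x ∈ N, x ≠ 1 → ∀ y, q y = q x → y ∈ N := fun x hx hx1 y hy => by
    obtain ⟨i, -, rfl⟩ := h.orbit hx1 hy
    exact hNi x hx i
  have h5 : ∀ x, x ∈ N → x ≠ 1 → (Finset.range 5).image (fun i => f^[i] x) ⊆
      Finset.univ.filter (fun y => y ∈ N ∧ y ≠ 1) := by
    intro x hx hx1 y hy
    obtain ⟨i, -, rfl⟩ := Finset.mem_image.1 hy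
    exact Finset.mem_filter.2 ⟨Finset.mem_univ _, hNi x hx i, fun e =>
      hx1 (f.injective.iterate i (e.trans (Function.iterate_fixed (map_one f) _).symm))⟩
  have hcard : Nat.card N = (Finset.univ.filter (fun y => y ∈ N ∧ y ≠ 1)).card + 1 := by
    rw [Nat.card_eq_fintype_card, Fintype.card_subtype,
      ← Finset.card_erase_add_one (Finset.mem_filter.2 ⟨Finset.mem_univ 1, N.one_mem⟩)]
    congr 2
    ext y
    simp [and_comm]
  have h6 : 6 ≤ Nat.card N := by
    have := Finset.card_le_card (h5 v hvN hv)
    rw [Finset.card_image_of_injOn fun i hi j hj e =>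
      h.it_inj (Finset.mem_range.1 hi) (Finset.mem_range.1 hj) hv e, Finset.card_range] at this
    omega
  have hdvd : Nat.card N ∣ 16 := h.card ▸ N.card_subgroup_dvd_card
  have h8 : Nat.card N = 8 ∨ Nat.card N = 16 := by
    have := Nat.le_of_dvd (by norm_num) hdvd
    interval_cases Nat.card N <;> omega
  rcases h8 with h8 | h8
  swap
  · rw [h.card, h8]
  exfalso
  -- a further orbit
  obtain ⟨x, hx, hxv⟩ : ∃ x ∈ Finset.univ.filter (fun y => y ∈ N ∧ y ≠ 1),
      x ∉ (Finset.range 5).image (fun i => f^[i] v) := by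
    by_contra hc
    push Not at hc
    have := Finset.card_le_card (fun x hx => hc x hx)
    have h' := Finset.card_image_le (s := Finset.range 5) (f := fun i => f^[i] v)
    rw [Finset.card_range] at h'
    omega
  obtain ⟨-, hxN, hx1⟩ := Finset.mem_filter.1 hx
  have hdisj : Disjoint ((Finset.range 5).image (fun i => f^[i] v)) ((Finset.range 5).image (fun i => f^[i] x)) := by
    rw [Finset.disjoint_left]
    intro y hy hy'
    obtain ⟨i, -, rfl⟩ := Finset.mem_image.1 hy
    obtain ⟨j, -, e⟩ := Finset.mem_image.1 hy'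
    have hqx : q x = q v := by rw [← h.q_it j x, e, h.q_it]
    obtain ⟨k, hk, rfl⟩ := h.orbit hv hqx
    exact hxv (Finset.mem_image.2 ⟨k, Finset.mem_range.2 hk, rfl⟩)
  have := Finset.card_le_card (Finset.union_subset (h5 v hvN hv) (h5 x hxN hx1))
  rw [Finset.card_union_of_disjoint hdisj,
    Finset.card_image_of_injOn fun i hi j hj e => h.it_inj (Finset.mem_range.1 hi) (Finset.mem_range.1 hj) hv e,
    Finset.card_image_of_injOn fun i hi j hj e => h.it_inj (Finset.mem_range.1 hi) (Finset.mem_range.1 hj) hx1 e,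
    Finset.card_range] at this
  omega

variable {α : V ≃* V} (hα : ∀ w, q (α w) = q w)
include hα

/-- An automorphism fixing a vector permutes its two neighbours. -/
theorem nbr {v w : V} (hv : v ≠ 1) (hfix : α v = v) (hw : q w = q v) (hpair : q (v * w) = q (v * f v)) :
    α w = f v ∨ α w = f^[4] v := by
  obtain ⟨i, hi, e⟩ := h.orbit hv ((hα w).trans hw)
  have hq : q (v * f^[i] v) = q (v * f v) := by
    have := hα (v * w)
    rw [map_mul, hfix, e, hpair] at this
    exact this
  have h3 : q (v * f^[3] v) = q (v * f (f v)) := by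
    rw [← h.q_it 2 (v * f^[3] v)]
    show q (f (f (v * f^[3] v))) = _
    rw [map_mul, map_mul, show f (f (f^[3] v)) = v from h.five v, h.comm]
  interval_cases i
  · exfalso
    refine h.one ?_
    have hne : v * f v ≠ 1 := fun e' => hv (h.fpf v (mul_left_cancel (e'.trans (h.two v).symm)))
    have := h.mem _ hne
    rwa [← hq, Function.iterate_zero_apply, h.two] at this
  · exact Or.inl e
  · exact absurd hq.symm (h.pair_ne hv)
  · exact absurd (hq.symm.trans h3) (h.pair_ne hv)
  · exact Or.inr e

theorem step {v : V} (hv : v ≠ 1) (hfix : α v = v) : α (f v) = f v ∨ α (f v) = f^[4] v :=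
  h.nbr hα hv hfix (h.qf v) rfl

/-- If it fixes a vector and its neighbour it fixes the whole orbit. -/
theorem orbit_fixed {v : V} (hv : v ≠ 1) (hfix : α v = v) (hfix1 : α (f v) = f v) :
    ∀ i, α (f^[i] v) = f^[i] v := by
  suffices H : ∀ i, α (f^[i] v) = f^[i] v ∧ α (f^[i + 1] v) = f^[i + 1] v from fun i => (H i).1
  intro i
  induction i with
  | zero => exact ⟨hfix, hfix1⟩
  | succ i ih =>
    refine ⟨ih.2, ?_⟩
    have hw : f^[i + 1] v ≠ 1 := fun e =>
      hv (f.injective.iterate (i + 1) (e.trans (Function.iterate_fixed (map_one f) _).symm))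
    rcases h.step hα hw ih.2 with e | e
    · rwa [← Function.iterate_succ_apply' f] at e
    · exfalso
      rw [← Function.iterate_succ_apply' f, ← Function.iterate_add_apply, show 4 + (i + 1) = i + 5 by omega,
        Function.iterate_add_apply, h.five] at e
      have hw' : f^[i] v ≠ 1 := fun e' =>
        hv (f.injective.iterate i (e'.trans (Function.iterate_fixed (map_one f) _).symm))
      have h2 : f^[2] (f^[i] v) = f^[i] v := by
        rw [← Function.iterate_add_apply, show 2 + i = i + 1 + 1 by omega]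
        exact α.injective (e.trans ih.1.symm)
      exact hw' (h.it_fixed (by norm_num) (by norm_num) h2)

/-- An automorphism fixing a vector and its neighbour is trivial. -/
theorem eq_one_of_fixed {v : V} (hv : v ≠ 1) (hfix : α v = v) (hfix1 : α (f v) = f v) (w : V) : α w = w := by
  let O : Set V := Set.range fun i : ℕ => f^[i] v
  set N := Subgroup.closure O with hN
  have hNf : ∀ x ∈ N, f x ∈ N := fun x hx => (Subgroup.closure_le (N.comap f.toMonoidHom)).2 (by
    rintro _ ⟨i, rfl⟩
    refine Subgroup.subset_closure ⟨i + 1, ?_⟩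
    simp only [Function.iterate_succ_apply']
    rfl) hx
  have htop : N = ⊤ := h.span N hNf (Subgroup.subset_closure ⟨0, rfl⟩) hv
  have hle : N ≤ (α.toMonoidHom.eqLocus (MonoidHom.id V)) := (Subgroup.closure_le _).2 (by
    rintro _ ⟨i, rfl⟩
    exact h.orbit_fixed hα hv hfix hfix1 i)
  exact hle (htop.ge (Subgroup.mem_top w))

/-- A non-trivial one exchanges the two neighbours of a fixed vector. -/
theorem swap (hne : ¬ ∀ w, α w = w) {v : V} (hv : v ≠ 1) (hfix : α v = v) :
    α (f v) = f^[4] v ∧ α (f^[4] v) = f v := by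
  have e5 : f (f^[4] v) = v := by rw [← Function.iterate_succ_apply' f]; exact h.five v
  refine ⟨(h.step hα hv hfix).resolve_left fun e => hne (h.eq_one_of_fixed hα hv hfix e),
    (h.nbr hα hv hfix (h.q_it 4 v) ?_).resolve_right fun e => hne ?_⟩
  · rw [← h.qf (v * f^[4] v), map_mul, e5, h.comm]
  · refine h.eq_one_of_fixed hα (v := f^[4] v) (fun e' => hv ?_) e (by rwa [e5])
    exact f.injective.iterate 4 (e'.trans (Function.iterate_fixed (map_one f) _).symm)

/-- A non-trivial one fixes one vector of each value. -/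
theorem fixed_unique (hne : ¬ ∀ w, α w = w) {v w : V} (hv : v ≠ 1) (hfv : α v = v) (hfw : α w = w)
    (hq : q w = q v) : w = v := by
  obtain ⟨i, hi, rfl⟩ := h.orbit hv hq
  obtain ⟨hs, hb⟩ := h.swap hα hne hv hfv
  have e5 := h.five v
  have inj : ∀ {a b : ℕ}, a < 5 → b < 5 → f^[a] v = f^[b] v → a = b := fun ha hb' e => h.it_inj ha hb' hv e
  have hw1 : f^[i] v ≠ 1 := fun e =>
    hv (f.injective.iterate i (e.trans (Function.iterate_fixed (map_one f) _).symm))
  obtain ⟨hs', hb'⟩ := h.swap hα hne hw1 hfw
  rw [← Function.iterate_succ_apply' f, ← Function.iterate_add_apply] at hs' hb'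
  interval_cases i
  · rfl
  · exact absurd (inj (a := 4) (b := 1) (by norm_num) (by norm_num) (hs.symm.trans hfw)) (by norm_num)
  · rw [show 4 + 2 = 1 + 5 from rfl, Function.iterate_add_apply, e5] at hb'
    exact absurd (inj (a := 4) (b := 3) (by norm_num) (by norm_num) (hs.symm.trans hb')) (by norm_num)
  · rw [show 4 + 3 = 2 + 5 from rfl, Function.iterate_add_apply, e5] at hs'
    exact absurd (inj (a := 1) (b := 2) (by norm_num) (by norm_num) (hb.symm.trans hs')) (by norm_num)
  · exact absurd (inj (a := 1) (b := 4) (by norm_num) (by norm_num) (hb.symm.trans hfw)) (by norm_num)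

omit hα in
/-- The product along an orbit is trivial. -/
theorem orbit_prod (v : V) : v * f v * f (f v) * f (f (f v)) * f (f (f (f v))) = 1 := by
  refine h.fpf _ ?_
  have h5 : f (f (f (f (f v)))) = v := h.five v
  simp only [map_mul, h5]
  rw [h.comm _ v, ← mul_assoc, ← mul_assoc, ← mul_assoc]

omit hα in
/-- An automorphism preserving the map, or its product with another one, is a power of `f`. -/
theorem rotation {α β : V ≃* V} (hα' : ∀ w, q (α w) = q w) (hβ' : ∀ w, q (β w) = q w) :
    (∃ i, ∀ w, α w = f^[i] w) ∨ (∃ i, ∀ w, β w = f^[i] w) ∨ ∃ i, ∀ w, α (β w) = f^[i] w := by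
  classical
  haveI : Finite V := Nat.finite_of_card_ne_zero (by rw [h.card]; norm_num)
  obtain ⟨v, hv⟩ : ∃ v : V, v ≠ 1 := by
    by_contra hc
    push Not at hc
    haveI : Subsingleton V := ⟨fun a b => (hc a).trans (hc b).symm⟩
    have := h.card
    rw [Nat.card_of_subsingleton (1 : V)] at this
    norm_num at this
  let O : Subgroup (MulAut V) :=
    { carrier := {γ | ∀ w, q (γ w) = q w}
      one_mem' := fun w => rfl
      mul_mem' := fun {a b} ha hb w => (ha (b w)).trans (hb w)
      inv_mem' := fun {a} ha w => by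
        have := ha (a⁻¹ w)
        rwa [MulAut.apply_inv_self, eq_comm] at this }
  have hfO : (f : MulAut V) ∈ O := h.qf
  have hit : ∀ (i : ℕ) (w : V), ((f : MulAut V) ^ i) w = f^[i] w := fun i => by
    induction i with
    | zero => exact fun w => rfl
    | succ i ih => intro w; rw [pow_succ', Function.iterate_succ_apply', ← ih]; rfl
  let R := (Subgroup.zpowers (f : MulAut V)).subgroupOf O
  have hR : ∀ γ : O, γ ∈ R → ∃ i, ∀ w, (γ : MulAut V) w = f^[i] w := by
    intro γ hγ
    obtain ⟨i, hi⟩ := (isOfFinOrder_of_finite (f : MulAut V)).mem_powers_iff_mem_zpowers.2 hγ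
    exact ⟨i, fun w => by rw [← hit i w]; exact congrArg (fun g : MulAut V => g w) hi.symm⟩
  have hcard : Nat.card O ≤ 10 := by
    refine le_trans (Nat.card_le_card_of_injective (β := Fin 5 × Bool) (fun γ : O =>
      (⟨Classical.choose (h.orbit hv (γ.2 v)), (Classical.choose_spec (h.orbit hv (γ.2 v))).1⟩,
        decide ((γ : MulAut V) (f v) = f^[(Classical.choose (h.orbit hv (γ.2 v))) + 1] v))) ?_) (by simp)
    intro γ δ e
    obtain ⟨e1, e2⟩ := Prod.mk.inj e
    set i := Classical.choose (h.orbit hv (γ.2 v)) with hidef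
    have hγv : (γ : MulAut V) v = f^[i] v := (Classical.choose_spec (h.orbit hv (γ.2 v))).2
    have e1' : Classical.choose (h.orbit hv (δ.2 v)) = i := (Fin.mk.inj e1).symm
    have hδv : (δ : MulAut V) v = f^[i] v := e1' ▸ (Classical.choose_spec (h.orbit hv (δ.2 v))).2
    rw [e1'] at e2
    set g : MulAut V := ((f : MulAut V) ^ i)⁻¹
    have hg : g ∈ O := inv_mem (pow_mem hfO i)
    have hgi : ∀ w, g (f^[i] w) = w := fun w => by rw [← hit i w]; exact MulAut.inv_apply_self _ _ w
    have hγ0 : (g * γ) v = v := by show g ((γ : MulAut V) v) = v; rw [hγv, hgi]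
    have hδ0 : (g * δ) v = v := by show g ((δ : MulAut V) v) = v; rw [hδv, hgi]
    have hsame : (g * γ : MulAut V) (f v) = (g * δ : MulAut V) (f v) := by
      rcases h.step (mul_mem hg γ.2) hv hγ0 with a1 | a1 <;> rcases h.step (mul_mem hg δ.2) hv hδ0 with a2 | a2
      · exact a1.trans a2.symm
      · exfalso
        have h1 : (γ : MulAut V) (f v) = f^[i + 1] v := by
          rw [Function.iterate_add_apply]
          exact g.injective (a1.trans (hgi _).symm)
        rw [decide_eq_decide] at e2
        have h2 : g ((δ : MulAut V) (f v)) = g (f^[i] (f^[1] v)) := by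
          rw [e2.1 h1, Function.iterate_add_apply]
        rw [hgi] at h2
        exact absurd (h.it_inj (by norm_num) (by norm_num) hv (a2.symm.trans h2)) (by norm_num : (4 : ℕ) ≠ 1)
      · exfalso
        have h1 : (δ : MulAut V) (f v) = f^[i + 1] v := by
          rw [Function.iterate_add_apply]
          exact g.injective (a2.trans (hgi _).symm)
        rw [decide_eq_decide] at e2
        have h2 : g ((γ : MulAut V) (f v)) = g (f^[i] (f^[1] v)) := by
          rw [e2.2 h1, Function.iterate_add_apply]
        rw [hgi] at h2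
        exact absurd (h.it_inj (by norm_num) (by norm_num) hv (a1.symm.trans h2)) (by norm_num : (4 : ℕ) ≠ 1)
      · exact a1.trans a2.symm
    have hεv : ((g * γ)⁻¹ * (g * δ) : MulAut V) v = v := by
      show (g * γ : MulAut V)⁻¹ ((g * δ : MulAut V) v) = v
      conv_lhs => rw [hδ0, ← hγ0]
      exact MulAut.inv_apply_self _ _ _
    have hεf : ((g * γ)⁻¹ * (g * δ) : MulAut V) (f v) = f v := by
      show (g * γ : MulAut V)⁻¹ ((g * δ : MulAut V) (f v)) = f v
      rw [← hsame]
      exact MulAut.inv_apply_self _ _ _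
    refine Subtype.ext (mul_left_cancel (a := g) (inv_mul_eq_one.1 (MulEquiv.ext fun w => ?_)))
    exact h.eq_one_of_fixed (mul_mem (inv_mem (mul_mem hg γ.2)) (mul_mem hg δ.2)) hv hεv hεf w
  have h5 : 5 ≤ Nat.card R := by
    refine le_trans (by simp) (Nat.card_le_card_of_injective (α := Fin 5) (fun i : Fin 5 =>
      (⟨⟨(f : MulAut V) ^ (i : ℕ), pow_mem hfO _⟩, Subgroup.pow_mem _ (Subgroup.mem_zpowers _) _⟩ : R)) ?_)
    intro i j e
    have e' := congrArg (fun g : R => ((g : O) : MulAut V) v) e
    simp only [hit] at e'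
    exact Fin.ext (h.it_inj i.2 j.2 hv e')
  have hi : R.index = 1 ∨ R.index = 2 := by
    have h1 := R.card_mul_index
    have h2 := R.index_ne_zero_of_finite
    have : R.index ≤ 2 := by nlinarith
    omega
  by_cases ha : (⟨α, hα'⟩ : O) ∈ R
  · exact Or.inl (hR _ ha)
  by_cases hb : (⟨β, hβ'⟩ : O) ∈ R
  · exact Or.inr (Or.inl (hR _ hb))
  refine Or.inr (Or.inr ?_)
  have hab : (⟨α, hα'⟩ : O) * ⟨β, hβ'⟩ ∈ R := by
    rcases hi with hi | hi
    · exact absurd ((Subgroup.index_eq_one.1 hi).ge (Subgroup.mem_top _)) ha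
    · exact (Subgroup.mul_mem_iff_of_index_two hi).2 (iff_of_false ha hb)
  exact hR _ hab

end Pent

end Cfsg.Agent.Goldschmidt
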