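import Cfsg.Agent.Lib.Goldschmidt.RankTwoChar
import Cfsg.Agent.Lib.Goldschmidt.Normalise
import Cfsg.Agent.Lib.Fusion.Product.Main
import Cfsg.Agent.Lib.Char.GaloisDegrees
import Cfsg.Agent.Lib.Goldschmidt.Local.Main

/-!
# Rank two without moved components: the setting

The normaliser of `A` induces a group of order three, every 2-group over `A` centralises it, and the normaliser
controls fusion.  An element is *mobile* if the conjugates of `A` in its centraliser do not lie in `A` times a group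
of odd order.
-/

set_option autoImplicit false
set_option linter.style.haveILetI false
set_option linter.unusedSectionVars false

namespace Cfsg.Agent.Goldschmidt

open Subgroup
open Cfsg.Agent.Local.SCA (SC autOn conj_mem)

universe u

variable {G : Type u} [Group G] [Finite G] {A : Subgroup G}

/-- A minimal counterexample of rank two without moved components. -/
structure Rk2 (G : Type u) [Group G] [Finite G] (A : Subgroup G) : Prop where
  hyp : Hyp G A
  noMoved : NoMoved A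
  four : Nat.card A = 4

/-- The conjugates of `A` in `K` lie in `A` times a group of odd order normalised by `K`. -/
def Still (A K : Subgroup G) : Prop :=
  ∃ O : Subgroup G, Odd (Nat.card O) ∧ K ≤ normalizer (O : Set G) ∧ ∀ k ∈ K, ∀ a ∈ A, k * a * k⁻¹ ∈ A ⊔ O

/-- The centraliser of the element moves `A` by more than a group of odd order. -/
def Mobile (A : Subgroup G) (x : G) : Prop := ¬ Still A (centralizer ({x} : Set G))

theorem Still.mono {K K' : Subgroup G} (h : Still A K') (hle : K ≤ K') : Still A K := by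
  obtain ⟨O, hO, hN, hk⟩ := h
  exact ⟨O, hO, hle.trans hN, fun k hkK => hk k (hle hkK)⟩

theorem Still.conj {K : Subgroup G} (h : Still A K) {n : G} (hn : n ∈ normalizer (A : Set G)) :
    Still A (Fusion.cj K n) := by
  obtain ⟨O, hO, hN, hk⟩ := h
  refine ⟨Fusion.cj O n, by rwa [Fusion.card_cj], ?_, ?_⟩
  · rw [← Fusion.cj_normalizer]; exact Fusion.cj_mono hN n
  rintro _ ⟨k, hkK, rfl⟩ a ha
  have h1 : n⁻¹ * a * n ∈ A := by simpa using conj_mem (inv_mem hn) ha
  have h2 := Fusion.conj_mem_cj (g := n) (hk k hkK _ h1)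
  rw [Fusion.cj_sup, Fusion.cj_eq_self hn] at h2
  rwa [show n * (k * (n⁻¹ * a * n) * k⁻¹) * n⁻¹ = n * k * n⁻¹ * a * (n * k * n⁻¹)⁻¹ by group] at h2

theorem Mobile.conj {x : G} (h : Mobile A x) {n : G} (hn : n ∈ normalizer (A : Set G)) :
    Mobile A (n * x * n⁻¹) := by
  intro hs
  refine h ((hs.conj (inv_mem hn)).mono fun y hy => ?_)
  rw [Fusion.mem_cj, inv_inv, mem_centralizer_singleton_iff]
  have hy' := mem_centralizer_singleton_iff.1 hy
  calc n * y * n⁻¹ * (n * x * n⁻¹) = n * (y * x) * n⁻¹ := by group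
    _ = n * x * n⁻¹ * (n * y * n⁻¹) := by rw [hy']; group

theorem centralizer_le_pow (x : G) (k : ℕ) : centralizer ({x} : Set G) ≤ centralizer ({x ^ k} : Set G) :=
  fun _ hy => mem_centralizer_singleton_iff.2 ((Commute.pow_right (mem_centralizer_singleton_iff.1 hy) k).eq)

theorem Mobile.pow {x : G} (h : Mobile A x) (k : ℕ) : Mobile A (x ^ k) :=
  fun hs => h (hs.mono (centralizer_le_pow x k))

/-- A 2-group fixes an element other than one of a normalised subgroup. -/
theorem exists_fixed {P N : Subgroup G} (hP : IsPGroup 2 P) (hNP : N ≤ P) (hn : P ≤ normalizer (N : Set G))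
    (hN : N ≠ ⊥) : ∃ z ∈ N, z ≠ 1 ∧ ∀ g ∈ P, g * z = z * g := by
  haveI : Fact (Nat.Prime 2) := ⟨Nat.prime_two⟩
  haveI : (N.subgroupOf P).Normal := ⟨fun a ha s => by
    rw [mem_subgroupOf] at ha ⊢
    simpa using conj_mem (hn s.2) ha⟩
  haveI : Fintype ↥P := Fintype.ofFinite ↥P
  obtain ⟨⟨z, hzN, hzc⟩, hz1⟩ := Subgroup.ne_bot_iff_exists_ne_one.1
    (Char.GalDeg.inf_center_ne_bot hP (N.subgroupOf P) fun e => hN (by
      rw [← Subgroup.map_subgroupOf_eq_of_le hNP, e, Subgroup.map_bot]))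
  exact ⟨(z : G), hzN, fun e => hz1 (Subtype.ext (Subtype.ext e)),
    fun g hg => congrArg Subtype.val (Subgroup.mem_center_iff.1 hzc ⟨g, hg⟩)⟩

/-- A still subgroup of a centraliser: the odd group may be taken in the core. -/
theorem factorAt_of_still (hsc : SC A) {z : G}
    (hAC : A ≤ centralizer ({z} : Set G)) (hs : Still A (centralizer ({z} : Set G))) : FactorAt A z := by
  intro g hg
  haveI : Fact (Nat.Prime 2) := ⟨Nat.prime_two⟩
  obtain ⟨O, hO, hN, hk⟩ := hs
  set C := centralizer ({z} : Set G) with hC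
  haveI : (Cfsg.oddCore ↥C).Normal := Solv.pPrimeCore_normal 2
  set π := QuotientGroup.mk' (Cfsg.oddCore ↥C) with hπ
  set A' := A.subgroupOf C with hA'
  set O' := O.subgroupOf C with hO'
  haveI hO'n : O'.Normal := ⟨fun x hx y => by
    rw [hO', mem_subgroupOf] at hx ⊢
    simpa using (mem_normalizer_iff.1 (hN y.2) _).1 hx⟩
  have hO'c : O' ≤ Cfsg.oddCore ↥C := Fusion.le_pPrimeCore (Nat.coprime_two_right.2 (hO.of_dvd_nat (by
    rw [← Solv.card_map_subtype, hO', subgroupOf_map_subtype]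
    exact Subgroup.card_dvd_of_le inf_le_left)))
  have hnormal : (A'.map π).Normal := by
    refine Subgroup.normalizer_eq_top_iff.1 (top_le_iff.1 fun y _ => ?_)
    obtain ⟨c, rfl⟩ := QuotientGroup.mk'_surjective _ y
    refine Fusion.mem_normalizer_of_cj_le ?_
    rintro _ ⟨_, ⟨a, ha, rfl⟩, rfl⟩
    have h1 := hk (c : G) c.2 (a : G) ha
    rw [← SetLike.mem_coe, Subgroup.coe_mul_of_left_le_normalizer_right _ _ (hAC.trans hN)] at h1
    obtain ⟨b, hb, o, ho, e⟩ := h1
    have hbC : b ∈ C := hAC hb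
    have hoC : o ∈ C := by
      have h2 : (c : G) * a * (c : G)⁻¹ ∈ C := mul_mem (mul_mem c.2 a.2) (inv_mem c.2)
      have h3 := mul_mem (inv_mem hbC) h2
      rwa [← e, inv_mul_cancel_left] at h3
    refine ⟨⟨b, hbC⟩, hb, ?_⟩
    have h4 : π ⟨o, hoC⟩ = 1 := by
      rw [hπ, QuotientGroup.mk'_apply, QuotientGroup.eq_one_iff]
      exact hO'c (show (⟨o, hoC⟩ : C) ∈ O' from ho)
    show π ⟨b, hbC⟩ = π c * π a * (π c)⁻¹
    rw [← map_inv, ← map_mul, ← map_mul, show c * a * c⁻¹ = ⟨b, hbC⟩ * ⟨o, hoC⟩ from Subtype.ext e.symm, map_mul,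
      h4, mul_one]
  obtain ⟨o, ho, hn⟩ := Local.SCA.factor (hsc.subgroupOf hAC).isPGroup
    (Local.SCA.sup_normal_of_map hnormal) ⟨g, hg⟩
  rw [← Subgroup.subgroupOf_normalizer_eq hAC] at hn
  exact ⟨o, ⟨o, ho, rfl⟩, hn⟩

theorem still_of_factorAt {z : G} (hF : FactorAt A z) : Still A (centralizer ({z} : Set G)) := by
  refine ⟨centralizerPPrimeCore 2 z, Local.SCA.core_odd z, LocBal.centralizer_le_normalizer_core z,
    fun k hk a ha => ?_⟩
  obtain ⟨o, ho, hn⟩ := hF k hk
  rw [show k * a * k⁻¹ = o⁻¹ * (o * k * a * (o * k)⁻¹) * o by group]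
  exact mul_mem (mul_mem (mem_sup_right (inv_mem ho)) (mem_sup_left (conj_mem hn ha))) (mem_sup_right ho)

namespace Rk2

variable (h : Rk2 G A)
include h

theorem sq {a : G} (ha : a ∈ A) : a * a = 1 := by rw [← pow_two]; exact h.hyp.elem.2 a ha

theorem inv_eq {a : G} (ha : a ∈ A) : a⁻¹ = a := inv_eq_of_mul_eq_one_left (h.sq ha)

theorem comm {a b : G} (ha : a ∈ A) (hb : b ∈ A) : a * b = b * a := Local.SCA.comm_of_mem h.hyp.elem ha hb

theorem le_cent {a : G} (ha : a ∈ A) : A ≤ centralizer ({a} : Set G) :=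
  Local.SCA.le_centralizer_of_mem h.hyp.elem ha

/-- Two elements different from one generate. -/
theorem cases {a b x : G} (ha : a ∈ A) (ha1 : a ≠ 1) (hb : b ∈ A) (hb1 : b ≠ 1) (hab : a ≠ b) (hx : x ∈ A) :
    x = 1 ∨ x = a ∨ x = b ∨ x = a * b := by
  classical
  by_contra hc
  push Not at hc
  obtain ⟨hx1, hxa, hxb, hxab⟩ := hc
  have hab1 : a * b ≠ 1 := fun e => hab (by rw [← h.inv_eq hb]; exact eq_inv_of_mul_eq_one_left e)
  have hsub : ({1, a, b, a * b, x} : Finset G) ⊆ (A : Set G).toFinite.toFinset := by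
    intro y hy
    rw [Set.Finite.mem_toFinset]
    simp only [Finset.mem_insert, Finset.mem_singleton] at hy
    rcases hy with rfl | rfl | rfl | rfl | rfl
    exacts [one_mem A, ha, hb, mul_mem ha hb, hx]
  have hle := Finset.card_le_card hsub
  rw [← Nat.card_eq_card_finite_toFinset, SetLike.coe_sort_coe, h.four] at hle
  have h5 : ({1, a, b, a * b, x} : Finset G).card = 5 := by
    rw [Finset.card_insert_of_notMem, Finset.card_insert_of_notMem, Finset.card_insert_of_notMem,
      Finset.card_insert_of_notMem, Finset.card_singleton]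
    · simpa using hxab.symm
    · simp [hxb.symm, ha1]
    · simp [hab, hxa.symm, hb1]
    · simp [ha1.symm, hb1.symm, hab1.symm, hx1.symm]
  omega

/-- An automorphism induced by `N(A)` fixing an element other than one is trivial. -/
theorem fix_cent {n : G} (hn : n ∈ normalizer (A : Set G)) {a : G} (ha : a ∈ A) (ha1 : a ≠ 1)
    (hna : n * a = a * n) : n ∈ centralizer (A : Set G) := by
  classical
  let V := {x : A // x ≠ 1}
  haveI : Fintype V := Fintype.ofFinite V
  let f : ↥(autOn A) →* Equiv.Perm V :=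
    { toFun := fun α => (α : MulAut A).toEquiv.subtypeEquiv fun x => by simp
      map_one' := Equiv.ext fun x => rfl
      map_mul' := fun α β => Equiv.ext fun x => rfl }
  have hsign : ∀ α : ↥(autOn A), Equiv.Perm.sign (f α) = 1 := by
    intro α
    by_contra hne
    refine h.hyp.no_index_two_autOn (Equiv.Perm.sign.comp f).ker ?_
    rw [Subgroup.index_ker, MonoidHom.range_eq_top.2, Subgroup.card_top, Nat.card_eq_fintype_card,
      Fintype.card_units_int]
    intro u
    rcases Int.units_eq_one_or u with rfl | rfl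
    · exact ⟨1, map_one _⟩
    · exact ⟨α, (Int.units_eq_one_or _).resolve_left hne⟩
  refine mem_centralizer_iff.2 fun b hb => ?_
  by_contra hnb
  have hb1 : b ≠ 1 := fun e => hnb (by rw [e, one_mul, mul_one])
  have hab : a ≠ b := fun e => hnb (e ▸ hna.symm)
  have hab1 : a * b ≠ 1 := fun e => hab (by rw [← h.inv_eq hb]; exact eq_inv_of_mul_eq_one_left e)
  have hab2 : a * b ≠ b := fun e => ha1 (by simpa using e)
  have ha' : n * a * n⁻¹ = a := by rw [hna, mul_inv_cancel_right]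
  have hnb' : n * b * n⁻¹ = a * b := by
    rcases h.cases ha ha1 hb hb1 hab (conj_mem hn hb) with e | e | e | e
    · exact absurd (conj_eq_one_iff.1 e) hb1
    · exact absurd (mul_left_cancel (mul_right_cancel (ha'.trans e.symm))) hab
    · exact absurd (mul_inv_eq_iff_eq_mul.1 e).symm hnb
    · exact e
  let α : ↥(autOn A) := ⟨_, ⟨⟨n, hn⟩, rfl⟩⟩
  have hswap : f α = Equiv.swap (⟨⟨b, hb⟩, fun e => hb1 (congrArg Subtype.val e)⟩ : V)
      ⟨⟨a * b, mul_mem ha hb⟩, fun e => hab1 (congrArg Subtype.val e)⟩ := by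
    refine Equiv.ext fun x => Subtype.ext (Subtype.ext ?_)
    show n * ((x.1 : A) : G) * n⁻¹ = _
    have hx1 : ((x.1 : A) : G) ≠ 1 := fun e => x.2 (Subtype.ext e)
    rcases h.cases ha ha1 hb hb1 hab x.1.2 with e | e | e | e
    · exact absurd e hx1
    · rw [e, ha', Equiv.swap_apply_of_ne_of_ne]
      · exact e.symm
      · exact fun e' => hab (e.symm.trans (congrArg (fun y : V => ((y.1 : A) : G)) e'))
      · exact fun e' => hb1 (by simpa using e.symm.trans (congrArg (fun y : V => ((y.1 : A) : G)) e'))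
    · rw [show x = ⟨⟨b, hb⟩, fun e => hb1 (congrArg Subtype.val e)⟩ from Subtype.ext (Subtype.ext e),
        Equiv.swap_apply_left]
      exact hnb'
    · rw [show x = ⟨⟨a * b, mul_mem ha hb⟩, fun e => hab1 (congrArg Subtype.val e)⟩ from
        Subtype.ext (Subtype.ext e), Equiv.swap_apply_right]
      show n * (a * b) * n⁻¹ = b
      rw [show n * (a * b) * n⁻¹ = n * a * n⁻¹ * (n * b * n⁻¹) by group, ha', hnb', ← mul_assoc, h.sq ha, one_mul]
  have hs := hsign α
  rw [hswap, Equiv.Perm.sign_swap (fun e => hab2 (congrArg (fun y : V => ((y.1 : A) : G)) e).symm)] at hs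
  exact absurd hs (by decide)

/-- A 2-element of the normaliser centralises `A`. -/
theorem two_cent {g : G} (hg : g ∈ normalizer (A : Set G)) (h2 : IsPGroup 2 (zpowers g)) :
    g ∈ centralizer (A : Set G) := by
  haveI : Fact (Nat.Prime 2) := ⟨Nat.prime_two⟩
  obtain ⟨S, hAS⟩ := h.hyp.sc.isPGroup.exists_le_sylow
  have hT : Fusion.SylIn 2 (S : Subgroup G) (normalizer (A : Set G)) :=
    (Fusion.sylIn_top S).mono (h.hyp.sc.le_normalizer hAS) le_top
  obtain ⟨x, hx, hxS⟩ := hT.conj_le h2 (zpowers_le.2 hg)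
  obtain ⟨a, haA, ha1, hac⟩ := exists_fixed S.isPGroup' hAS (h.hyp.sc.le_normalizer hAS) h.hyp.ne
  have h1 : x * g * x⁻¹ ∈ centralizer (A : Set G) :=
    h.fix_cent (mul_mem (mul_mem hx hg) (inv_mem hx)) haA ha1 (hac _ (hxS ⟨g, mem_zpowers g, rfl⟩))
  refine mem_centralizer_iff.2 fun b hb => ?_
  have h2 := mem_centralizer_iff.1 h1 _ (conj_mem hx hb)
  have h3 : x * (b * g) * x⁻¹ = x * (g * b) * x⁻¹ := by
    calc x * (b * g) * x⁻¹ = x * b * x⁻¹ * (x * g * x⁻¹) := by group
      _ = x * g * x⁻¹ * (x * b * x⁻¹) := h2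
      _ = _ := by group
  exact mul_left_cancel (mul_right_cancel h3)

/-- A 2-group over `A` centralises `A`. -/
theorem central {P : Subgroup G} (hP : IsPGroup 2 P) (hAP : A ≤ P) : P ≤ centralizer (A : Set G) := by
  obtain ⟨S, hS⟩ := hP.exists_le_sylow
  exact fun x hx => h.two_cent (h.hyp.sc.le_normalizer (hAP.trans hS) (hS hx))
    (hP.to_le (zpowers_le.2 hx))

/-- Some element of the normaliser moves `A`. -/
theorem exists_mover : ∃ n ∈ normalizer (A : Set G), n ∉ centralizer (A : Set G) := by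
  by_contra hc
  push Not at hc
  obtain ⟨a, ha, ha1⟩ := (Subgroup.bot_or_exists_ne_one A).resolve_left h.hyp.ne
  rcases h.hyp.irr (zpowers a) (zpowers_le.2 ha) (fun g hg u hu => by
    rwa [← mem_centralizer_iff.1 (hc g hg) u (zpowers_le.2 ha hu), mul_inv_cancel_right]) with e | e
  · exact ha1 (by rw [← Subgroup.mem_bot, ← e]; exact mem_zpowers a)
  · have h4 := h.four
    rw [← e, Nat.card_zpowers, orderOf_eq_prime (by rw [pow_two]; exact h.sq ha) ha1] at h4
    omega

/-- A mover is transitive. -/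
theorem trans_of_mover {n : G} (hn : n ∈ normalizer (A : Set G)) (hnc : n ∉ centralizer (A : Set G))
    {a b : G} (ha : a ∈ A) (ha1 : a ≠ 1) (hb : b ∈ A) (hb1 : b ≠ 1) :
    b = a ∨ b = n * a * n⁻¹ ∨ b = n * n * a * (n * n)⁻¹ := by
  set c := n * a * n⁻¹ with hc
  have hcA : c ∈ A := conj_mem hn ha
  have hca : c ≠ a := fun e => hnc (h.fix_cent hn ha ha1 (mul_inv_eq_iff_eq_mul.1 e))
  have hc1 : c ≠ 1 := fun e => ha1 (conj_eq_one_iff.1 e)
  have hd : n * n * a * (n * n)⁻¹ = n * c * n⁻¹ := by rw [hc]; group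
  rcases h.cases ha ha1 hcA hc1 hca.symm hb with e | e | e | e
  · exact absurd e hb1
  · exact Or.inl e
  · exact Or.inr (Or.inl e)
  refine Or.inr (Or.inr ?_)
  rw [e, hd]
  rcases h.cases ha ha1 hcA hc1 hca.symm (conj_mem hn hcA) with e' | e' | e' | e'
  · exact absurd (conj_eq_one_iff.1 e') hc1
  · exfalso
    -- the sum would be fixed
    refine hnc (h.fix_cent hn (mul_mem ha hcA) (fun e'' => hca ?_) (mul_inv_eq_iff_eq_mul.1 ?_))
    · rw [← h.inv_eq ha]
      exact eq_inv_of_mul_eq_one_right e''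
    · rw [show n * (a * c) * n⁻¹ = c * (n * c * n⁻¹) by rw [hc]; group, e', h.comm hcA ha]
  · exact absurd (mul_left_cancel (mul_right_cancel e')) hca
  · exact e'.symm

/-- An element of the normaliser fixing an element of `A` is in the centraliser of `A`; so factorisation. -/
theorem cent_factor {a : G} (ha : a ∈ A) (ha1 : a ≠ 1) {g : G} (hg : g ∈ centralizer ({a} : Set G)) :
    ∃ o ∈ centralizerPPrimeCore 2 a, o * g ∈ centralizer (A : Set G) := by
  obtain ⟨o, ho, hn⟩ := factorises_of_noMoved localStatement h.hyp h.noMoved a ha ha1 g hg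
  exact ⟨o, ho, h.fix_cent hn ha ha1
    (mem_centralizer_singleton_iff.1 (mul_mem (LocBal.core_le_centralizer a ho) hg))⟩

/-- No element of `A` other than one is mobile. -/
theorem still_cent {a : G} (ha : a ∈ A) (ha1 : a ≠ 1) : Still A (centralizer ({a} : Set G)) :=
  still_of_factorAt (factorises_of_noMoved localStatement h.hyp h.noMoved a ha ha1)

/-- The normaliser of `A` controls fusion in a Sylow subgroup over `A`. -/
theorem fuse {S : Sylow 2 G} (hAS : A ≤ (S : Subgroup G)) {D : Set G} (hD : D ⊆ (S : Subgroup G)) {g : G}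
    (hg : ∀ d ∈ D, g * d * g⁻¹ ∈ (S : Subgroup G)) :
    ∃ n ∈ normalizer (A : Set G), ∀ d ∈ D, n * d * n⁻¹ = g * d * g⁻¹ := by
  haveI : Fact (Nat.Prime 2) := ⟨Nat.prime_two⟩
  obtain ⟨T, hAT, hT⟩ := S2791.result S A h.hyp.elem.1 (h.hyp.sc.closed_in hAS)
  obtain ⟨x, hx, hxT⟩ := ((Fusion.sylIn_top S).mono (h.hyp.sc.le_normalizer hAS) le_top).conj_eq
    ((Fusion.sylIn_top T).mono (h.hyp.sc.le_normalizer hAT) le_top)
  have hmem : ∀ y ∈ (S : Subgroup G), x * y * x⁻¹ ∈ (T : Subgroup G) := fun y hy => hxT ▸ ⟨y, hy, rfl⟩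
  obtain ⟨n, hn, he⟩ := (hT ((fun d => x * d * x⁻¹) '' D) (by
    rintro _ ⟨d, hd, rfl⟩; exact hmem d (hD hd))).2 (x * g * x⁻¹) (by
    rintro _ ⟨_, ⟨d, hd, rfl⟩, rfl⟩
    show x * g * x⁻¹ * (x * d * x⁻¹) * (x * g * x⁻¹)⁻¹ ∈ (T : Subgroup G)
    rw [show x * g * x⁻¹ * (x * d * x⁻¹) * (x * g * x⁻¹)⁻¹ = x * (g * d * g⁻¹) * x⁻¹ by group]
    exact hmem _ (hg d hd))
  refine ⟨x⁻¹ * n * x, mul_mem (mul_mem (inv_mem hx) hn) hx, fun d hd => ?_⟩
  have h1 := he _ ⟨d, hd, rfl⟩
  calc x⁻¹ * n * x * d * (x⁻¹ * n * x)⁻¹ = x⁻¹ * (n * (x * d * x⁻¹) * n⁻¹) * x := by group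
    _ = x⁻¹ * (x * g * x⁻¹ * (x * d * x⁻¹) * (x * g * x⁻¹)⁻¹) * x := by rw [h1]
    _ = g * d * g⁻¹ := by group

/-- No strongly closed subgroup avoids `A`. -/
theorem no_closed {S : Sylow 2 G} (hAS : A ≤ (S : Subgroup G)) {Q : Subgroup G}
    (hQ : Cfsg.IsStronglyClosed Q (S : Subgroup G)) (hd : A ⊓ Q = ⊥) : Q = ⊥ := by
  haveI := h.hyp.simple
  by_contra hQ1
  have htop : ∀ X : Subgroup G, X ≠ ⊥ → normalClosure (X : Set G) = ⊤ := fun X hX =>
    (normalClosure_normal (s := (X : Set G))).eq_bot_or_eq_top.resolve_left fun e =>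
      hX (le_bot_iff.1 (e ▸ Subgroup.le_normalClosure))
  have h1 := StrongProd.prodThm G S A Q (h.hyp.sc.closed_in hAS) hQ hd
  rw [htop A h.hyp.ne, htop Q hQ1, CI.simple_core h.hyp.nonab, le_bot_iff] at h1
  exact h.hyp.nonab ⟨⟨fun a b => commutatorElement_eq_one_iff_mul_comm.1 (by
    rw [← Subgroup.mem_bot, ← h1]; exact commutator_mem_commutator (mem_top a) (mem_top b))⟩⟩

/-- An involution outside `A` has a mobile translate. -/
theorem exists_mobile {S : Sylow 2 G} (hAS : A ≤ (S : Subgroup G)) {y : G} (hy : orderOf y = 2)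
    (hyS : y ∈ (S : Subgroup G)) (hyA : y ∉ A) : ∃ b ∈ A, Mobile A (y * b) := by
  haveI := h.hyp.simple
  by_contra hc
  push Not at hc
  have hcen : ∀ s ∈ (S : Subgroup G), ∀ x ∈ A, Commute s x := fun s hs x hx =>
    (mem_centralizer_iff.1 (h.central S.isPGroup' hAS hs) x hx).symm
  refine false_of_good S (h.hyp.sc.closed_in hAS) h.hyp.elem hcen h.hyp.ne hy hyS hyA fun b hb =>
    factorAt_of_still h.hyp.sc (fun a ha => mem_centralizer_singleton_iff.2 ?_) (not_not.1 (hc b hb))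
  exact ((Commute.symm (hcen y hyS a ha)).mul_right (h.comm ha hb)).eq

end Rk2

end Cfsg.Agent.Goldschmidt
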