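import Cfsg.Agent.Lib.Goldschmidt.RankTwo.Data
import Cfsg.Agent.Lib.Goldschmidt.RankTwo.Pent

/-!
# Rank two: a component with Sylow 2-subgroups of order 64

The Sylow subgroup modulo `A` with its squaring map is the model of `Pent`; from this the centralisers in it and the
action of the elements outside `U P` are read off.
-/

set_option autoImplicit false
set_option linter.style.haveILetI false
set_option linter.unusedSectionVars false

namespace Cfsg.Agent.Goldschmidt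

open Subgroup
open Cfsg.Agent.Local.SCA (SC conj_mem)

universe u

variable {G : Type u} [Group G] [Finite G] {A : Subgroup G}

/-- The quotient by `A` with the squaring map. -/
structure IsModel (A U : Subgroup G) (ff : G) {V : Type u} [Group V] (π : ↥U →* V) (f : V ≃* V) (q : V → G)
    (W : Finset G) : Prop where
  surj : Function.Surjective π
  ker : ∀ w : U, π w = 1 ↔ (w : G) ∈ A
  sqq : ∀ w : U, q (π w) = (w : G) * w
  conj : ∀ (w : U) (hw : ff * w * ff⁻¹ ∈ U), f (π w) = π ⟨ff * w * ff⁻¹, hw⟩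
  pent : Pent f q W
  memW : ∀ a, a ∈ W ↔ a ∈ A ∧ a ≠ 1
  aut : ∀ x ∈ normalizer (U : Set G), x ∈ centralizer (A : Set G) → ∃ α : V ≃* V, (∀ v, q (α v) = q v) ∧
    ∀ (w : U) (hw : x * w * x⁻¹ ∈ U), α (π w) = π ⟨x * w * x⁻¹, hw⟩

/-- A 2-group fixes an involution of a normalised subgroup. -/
theorem exists_fixed_involution {P N : Subgroup G} (hP : IsPGroup 2 P) (hNP : N ≤ P)
    (hn : P ≤ normalizer (N : Set G)) (hN : N ≠ ⊥) : ∃ z ∈ N, orderOf z = 2 ∧ ∀ g ∈ P, g * z = z * g := by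
  haveI : Fact (Nat.Prime 2) := ⟨Nat.prime_two⟩
  obtain ⟨z, hz, hz1, hc⟩ := exists_fixed hP hNP hn hN
  obtain ⟨k, hk⟩ := IsPGroup.iff_orderOf.1 hP ⟨z, hNP hz⟩
  rw [orderOf_mk] at hk
  obtain ⟨j, rfl⟩ : ∃ j, k = j + 1 := ⟨k - 1, by
    have : k ≠ 0 := fun e => hz1 (orderOf_eq_one_iff.1 (by rw [hk, e, pow_zero]))
    omega⟩
  refine ⟨z ^ 2 ^ j, pow_mem hz _, ?_, fun g hg => (Commute.pow_right (hc g hg) _).eq⟩
  rw [orderOf_pow' z (by positivity), hk, Nat.gcd_eq_right (pow_dvd_pow 2 (Nat.le_succ j)), pow_succ,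
    Nat.mul_div_cancel_left _ (by positivity)]

namespace CData

variable {z : G} {T U P : Subgroup G} (h : Rk2 G A) (d : CData A z T U P) (hu : UType A z T U P)
include h d

theorem A_central {x : G} (hx : x ∈ T) {a : G} (ha : a ∈ A) : a * x = x * a :=
  mem_centralizer_iff.1 (h.central d.isPGroup d.AT hx) a ha

theorem conj_A {x : G} (hx : x ∈ T) {a : G} (ha : a ∈ A) : x * a * x⁻¹ = a := by
  rw [← d.A_central h hx ha, mul_inv_cancel_right]

include hu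

/-- The square of a product is the product of the squares and the commutator. -/
theorem comm_eq {u w : G} (huU : u ∈ U) (hw : w ∈ U) :
    u * w * u⁻¹ * w⁻¹ = u * w * (u * w) * (u * u * (w * w)) := by
  have hs := hu.sq u huU
  have e1 : u * w * (u * w) = u * w * u⁻¹ * w⁻¹ * (u * u * (w * w)) := by
    calc u * w * (u * w) = u * w * u⁻¹ * (u * u) * w := by group
      _ = u * w * u⁻¹ * (w⁻¹ * (w * (u * u))) * w := by group
      _ = u * w * u⁻¹ * (w⁻¹ * (u * u * w)) * w := by rw [d.A_central h (d.UT hw) hs]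
      _ = _ := by group
  rw [e1, mul_assoc (u * w * u⁻¹ * w⁻¹), h.sq (mul_mem hs (hu.sq w hw)), mul_one]

theorem sq_congr {u w : G} (huU : u ∈ U) (hw : w ∈ U) (ha : u⁻¹ * w ∈ A) : u * u = w * w := by
  rw [show w = u * (u⁻¹ * w) by group]
  calc u * u = u * u * (u⁻¹ * w * (u⁻¹ * w)) := by rw [h.sq ha, mul_one]
    _ = u * (u * (u⁻¹ * w)) * (u⁻¹ * w) := by group
    _ = u * ((u⁻¹ * w) * u) * (u⁻¹ * w) := by rw [d.A_central h (d.UT huU) ha]
    _ = _ := by group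

/-- The model for a fixed-point-free element of five-power order. -/
theorem exists_model_of {ff : G} (hfA : ff ∈ centralizer (A : Set G)) (hfU : ff ∈ normalizer (U : Set G)) {k : ℕ}
    (hk : ff ^ 5 ^ k = 1) (hfp : ∀ u ∈ U, ff * u * ff⁻¹ * u⁻¹ ∈ A → u ∈ A) :
    ∃ (V : Type u) (_ : Group V) (π : ↥U →* V) (f : V ≃* V) (q : V → G) (W : Finset G),
      IsModel A U ff π f q W := by
  classical
  set A' := A.subgroupOf U with hA'
  haveI : A'.Normal := ⟨fun a ha w => by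
    rw [hA', mem_subgroupOf] at ha ⊢
    simp only [Subgroup.coe_mul, InvMemClass.coe_inv, d.conj_A h (d.UT w.2) ha]
    exact ha⟩
  let π : ↥U →* ↥U ⧸ A' := QuotientGroup.mk' A'
  have hker : ∀ w : U, π w = 1 ↔ (w : G) ∈ A := fun w => by
    rw [QuotientGroup.mk'_apply, QuotientGroup.eq_one_iff, hA', mem_subgroupOf]
  let q : ↥U ⧸ A' → G := fun c => (c.out : G) * (c.out : G)
  have hsqq : ∀ w : U, q (π w) = (w : G) * w := fun w => by
    refine d.sq_congr h hu (SetLike.coe_mem _) w.2 ?_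
    have := QuotientGroup.eq.1 ((π w).out_eq')
    exact this
  have hcompat : ∀ (n : ↥(normalizer (U : Set G))), (n : G) ∈ centralizer (A : Set G) →
      A'.map (Subgroup.normalizerMonoidHom U n).toMonoidHom = A' := fun n hn => by
    refine le_antisymm ?_ fun a ha => ⟨a, ha, Subtype.ext ?_⟩
    · rintro _ ⟨a, ha, rfl⟩
      show (n : G) * a * (n : G)⁻¹ ∈ A
      rw [← mem_centralizer_iff.1 hn (a : G) ha, mul_inv_cancel_right]
      exact ha
    · show (n : G) * a * (n : G)⁻¹ = a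
      rw [← mem_centralizer_iff.1 hn (a : G) ha, mul_inv_cancel_right]
  let f := QuotientGroup.congr A' A' (Subgroup.normalizerMonoidHom U ⟨ff, hfU⟩) (hcompat ⟨ff, hfU⟩ hfA)
  have hconj : ∀ (w : U) (hw : ff * w * ff⁻¹ ∈ U), f (π w) = π ⟨ff * w * ff⁻¹, hw⟩ := fun w hw => rfl
  have hit : ∀ (n : ℕ) (w : U), ∃ hw : ff ^ n * w * (ff ^ n)⁻¹ ∈ U, f^[n] (π w) = π ⟨_, hw⟩ := by
    intro n
    induction n with
    | zero => exact fun w => ⟨by simp, congrArg π (Subtype.ext (by simp))⟩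
    | succ n ih =>
      intro w
      obtain ⟨hw, e⟩ := ih w
      have hw' : ff * (ff ^ n * w * (ff ^ n)⁻¹) * ff⁻¹ ∈ U := conj_mem hfU hw
      have he : ff ^ (n + 1) * w * (ff ^ (n + 1))⁻¹ = ff * (ff ^ n * w * (ff ^ n)⁻¹) * ff⁻¹ := by
        rw [pow_succ']; group
      refine ⟨he ▸ hw', ?_⟩
      rw [Function.iterate_succ_apply', e, hconj _ hw']
      exact congrArg π (Subtype.ext he.symm)
  set W : Finset G := (A : Set G).toFinite.toFinset.erase 1 with hW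
  have hmemW : ∀ a, a ∈ W ↔ a ∈ A ∧ a ≠ 1 := fun a => by simp [hW, and_comm]
  have hcardA : Nat.card A' = 4 := by
    rw [Nat.card_congr (Subgroup.subgroupOfEquivOfLe d.AU).toEquiv, h.four]
  refine ⟨_, inferInstance, π, f, q, W, QuotientGroup.mk'_surjective A', hker, hsqq, hconj,
    ⟨?_, fun v => ?_, fun v => ?_, fun v => ?_, fun v => ?_, fun v hv => ?_, ?_, ?_, fun a ha => ?_⟩, hmemW,
    fun x hxU hxA => ⟨QuotientGroup.congr A' A' (Subgroup.normalizerMonoidHom U ⟨x, hxU⟩) (hcompat ⟨x, hxU⟩ hxA),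
      fun v => ?_, fun w hw => rfl⟩⟩
  · have := Subgroup.card_eq_card_quotient_mul_card_subgroup A'
    rw [hu.card, hcardA] at this
    omega
  · obtain ⟨w, rfl⟩ := QuotientGroup.mk'_surjective A' v
    rw [← map_mul]
    exact (hker _).2 (hu.sq w w.2)
  · intro hv
    obtain ⟨w, rfl⟩ := QuotientGroup.mk'_surjective A' v
    refine (hker w).2 (hfp w w.2 ?_)
    have h1 : π (⟨ff * w * ff⁻¹, conj_mem hfU w.2⟩ * w⁻¹) = 1 := by
      rw [map_mul, ← hconj w (conj_mem hfU w.2), map_inv]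
      exact mul_inv_eq_one.2 hv
    exact (hker _).1 h1
  · obtain ⟨w, rfl⟩ := QuotientGroup.mk'_surjective A' v
    obtain ⟨hw, e⟩ := hit (5 ^ k) w
    exact ⟨k, e.trans (congrArg π (Subtype.ext (by simp [hk])))⟩
  · obtain ⟨w, rfl⟩ := QuotientGroup.mk'_surjective A' v
    rw [hconj w (conj_mem hfU w.2), hsqq, hsqq]
    show ff * w * ff⁻¹ * (ff * w * ff⁻¹) = (w : G) * w
    rw [show ff * w * ff⁻¹ * (ff * w * ff⁻¹) = ff * ((w : G) * w) * ff⁻¹ by group,
      ← mem_centralizer_iff.1 hfA _ (hu.sq w w.2), mul_inv_cancel_right]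
  · obtain ⟨w, rfl⟩ := QuotientGroup.mk'_surjective A' v
    rw [hsqq, hmemW]
    exact ⟨hu.sq w w.2, fun e => hv ((hker w).2 (d.invU w w.2 e))⟩
  · rw [← map_one π, hsqq, hmemW]
    simp
  · rw [hW, Finset.card_erase_of_mem (by simp), ← Nat.card_eq_card_finite_toFinset, SetLike.coe_sort_coe, h.four]
  · rw [hmemW] at ha
    obtain ⟨u0, hu0, hu0A⟩ : ∃ u ∈ U, u ∉ A := by
      by_contra hc
      push Not at hc
      have := Subgroup.card_le_of_le (show U ≤ A from hc)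
      rw [hu.card, h.four] at this
      omega
    obtain ⟨r, -, hrA, -, hrU, -, hrn, -⟩ := d.turn
    have hb1 : u0 * u0 ≠ 1 := fun e => hu0A (d.invU u0 hu0 e)
    rcases h.trans_of_mover hrA hrn (hu.sq u0 hu0) hb1 ha.1 ha.2 with e | e | e
    · exact ⟨π ⟨u0, hu0⟩, by rw [hsqq, e]⟩
    · refine ⟨π ⟨r * u0 * r⁻¹, conj_mem hrU hu0⟩, ?_⟩
      rw [hsqq, e]
      group
    · refine ⟨π ⟨r * r * u0 * (r * r)⁻¹, conj_mem (mul_mem hrU hrU) hu0⟩, ?_⟩
      rw [hsqq, e]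
      group
  · obtain ⟨w, rfl⟩ := QuotientGroup.mk'_surjective A' v
    show q (π ⟨x * w * x⁻¹, conj_mem hxU w.2⟩) = _
    rw [hsqq, hsqq]
    show x * w * x⁻¹ * (x * w * x⁻¹) = (w : G) * w
    rw [show x * w * x⁻¹ * (x * w * x⁻¹) = x * ((w : G) * w) * x⁻¹ by group,
      ← mem_centralizer_iff.1 hxA _ (hu.sq w w.2), mul_inv_cancel_right]

/-- The model exists. -/
theorem exists_model : ∃ ff : G, ff ∈ centralizer (A : Set G) ∧ ff ∈ normalizer (U : Set G) ∧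
    ∃ (V : Type u) (_ : Group V) (π : ↥U →* V) (f : V ≃* V) (q : V → G) (W : Finset G),
      IsModel A U ff π f q W := by
  obtain ⟨ff, -, hfA, -, hfU, ⟨k, hk⟩, hfp⟩ := hu.five
  exact ⟨ff, hfA, hfU, d.exists_model_of h hu hfA hfU hk hfp⟩

/-- An invariant subgroup between `A` and `U` is one of them. -/
theorem gen {ff : G} (hfA : ff ∈ centralizer (A : Set G)) (hfU : ff ∈ normalizer (U : Set G)) {k : ℕ}
    (hk : ff ^ 5 ^ k = 1) (hfp : ∀ u ∈ U, ff * u * ff⁻¹ * u⁻¹ ∈ A → u ∈ A) {X : Subgroup G} (hAX : A ≤ X)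
    (hX : X ≤ U) (hinv : ∀ x ∈ X, ff * x * ff⁻¹ ∈ X) : X ≤ A ∨ X = U := by
  classical
  obtain ⟨V, _, π, f, q, W, hm⟩ := d.exists_model_of h hu hfA hfU hk hfp
  by_cases hXA : X ≤ A
  · exact Or.inl hXA
  refine Or.inr (le_antisymm hX fun u huU => ?_)
  obtain ⟨x, hx, hxA⟩ := SetLike.not_le_iff_exists.1 hXA
  have htop : (X.subgroupOf U).map π = ⊤ := hm.pent.span _ (by
    rintro _ ⟨w, hw, rfl⟩
    refine ⟨⟨_, conj_mem hfU w.2⟩, hinv _ hw, ?_⟩
    exact (hm.conj w _).symm)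
    (v := π ⟨x, hX hx⟩) ⟨⟨x, hX hx⟩, hx, rfl⟩ fun e => hxA ((hm.ker _).1 e)
  obtain ⟨w, hw, e⟩ := (eq_top_iff.1 htop) (mem_top (π ⟨u, huU⟩))
  have h1 := (hm.ker (w⁻¹ * ⟨u, huU⟩)).1 (by rw [map_mul, map_inv, e, inv_mul_cancel])
  simpa using X.mul_mem hw (hAX h1)

/-- Only `A` is central in `U`. -/
theorem center_U {u : G} (huU : u ∈ U) (hc : ∀ w ∈ U, u * w = w * u) : u ∈ A := by
  obtain ⟨ff, -, hfA, -, hfU, -, hfp⟩ := hu.five
  refine hfp u huU ?_
  have hv : ff * u * ff⁻¹ ∈ U := conj_mem hfU huU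
  have hs : ff * u * ff⁻¹ * (ff * u * ff⁻¹) = u * u := by
    rw [show ff * u * ff⁻¹ * (ff * u * ff⁻¹) = ff * (u * u) * ff⁻¹ by group,
      ← mem_centralizer_iff.1 hfA _ (hu.sq u huU), mul_inv_cancel_right]
  have h1 : u * (ff * u * ff⁻¹) * (u * (ff * u * ff⁻¹)) = 1 := by
    rw [(Commute.mul_mul_mul_comm (show Commute (ff * u * ff⁻¹) u from (hc _ hv).symm)), hs,
      h.sq (hu.sq u huU)]
  have h2 := d.invU _ (mul_mem huU hv) h1
  have h3 := mul_mem h2 (inv_mem (hu.sq u huU))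
  rw [h.comm h2 (inv_mem (hu.sq u huU))] at h3
  have h4 : (u * u)⁻¹ * (u * (ff * u * ff⁻¹)) = u⁻¹ * (ff * u * ff⁻¹) := by group
  rw [h4] at h3
  rwa [show ff * u * ff⁻¹ * u⁻¹ = u * (u⁻¹ * (ff * u * ff⁻¹)) * u⁻¹ by group, d.conj_A h (d.UT huU) h3]

/-- An element outside `A` has a centraliser of order at most 16. -/
theorem cent_card {u : G} (huU : u ∈ U) (huA : u ∉ A) {X : Subgroup G} (hX : X ≤ U)
    (hc : ∀ w ∈ X, u * w = w * u) : Nat.card X ≤ 16 := by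
  obtain ⟨ff, hfA, hfU, V, _, π, f, q, W, hm⟩ := d.exists_model h hu
  by_contra hcard
  set X' := X.subgroupOf U with hX'
  have hmul := X'.card_mul_index
  rw [Nat.card_congr (Subgroup.subgroupOfEquivOfLe hX).toEquiv, hu.card] at hmul
  have hdvd : Nat.card X ∣ 64 := ⟨_, hmul.symm⟩
  have hi : X'.index ≤ 2 := by
    have h32 : 32 ≤ Nat.card X := by
      have := Nat.le_of_dvd (by norm_num) hdvd
      interval_cases Nat.card X <;> omega
    nlinarith
  set w₀ : U := ⟨u, huU⟩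
  set w₁ : U := ⟨ff * u * ff⁻¹, conj_mem hfU huU⟩
  set w₂ : U := ⟨ff * (ff * u * ff⁻¹) * ff⁻¹, conj_mem hfU w₁.2⟩
  have hv1 : π w₁ = f (π w₀) := (hm.conj w₀ _).symm
  have hv2 : π w₂ = f (f (π w₀)) := by rw [← hv1]; exact (hm.conj w₁ _).symm
  have hv : π w₀ ≠ 1 := fun e => huA ((hm.ker _).1 e)
  have hcom : ∀ w : U, q (π w) = q (π w₀) → u * w * u⁻¹ * (w : G)⁻¹ = q (π w₀ * π w) := by
    intro w e
    rw [← map_mul, hm.sqq, d.comm_eq h hu huU w.2]
    rw [hm.sqq, hm.sqq] at e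
    show _ * (u * u * ((w : G) * w)) = _
    rw [e, h.sq (hu.sq u huU), mul_one]
    rfl
  have hq1 : q (π w₁) = q (π w₀) := by rw [hv1, hm.pent.qf]
  have hq2 : q (π w₂) = q (π w₀) := by rw [hv2, hm.pent.qf, hm.pent.qf]
  have hne : ∀ w : U, q (π w) = q (π w₀) → π w ≠ π w₀ → w ∉ X' := by
    intro w e hne hw
    have h1 := hcom w e
    rw [hc w hw] at h1
    have h2 : q (π w₀ * π w) = 1 := by rw [← h1]; group
    have h3 : π w₀ * π w ≠ 1 := fun e' => hne (mul_left_cancel (e'.trans (hm.pent.two _).symm))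
    exact ((hm.memW _).1 (hm.pent.mem _ h3)).2 h2
  have hn1 := hne w₁ hq1 (by rw [hv1]; exact fun e => hv (hm.pent.fpf _ e))
  have hn2 := hne w₂ hq2 (by rw [hv2]; exact fun e => hv (hm.pent.it_fixed (i := 2) (by norm_num) (by norm_num) e))
  have hi2 : X'.index = 2 := by
    have h0 := X'.index_ne_zero_of_finite
    rcases Nat.lt_or_ge X'.index 2 with h1 | h1
    · exact absurd (Subgroup.index_eq_one.1 (by omega : X'.index = 1) ▸ Subgroup.mem_top w₁) hn1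
    · omega
  have h12 : w₁ * w₂ ∈ X' := (Subgroup.mul_mem_iff_of_index_two hi2).2 (iff_of_false hn1 hn2)
  have h1 : u * ((w₁ * w₂ : U) : G) = ((w₁ * w₂ : U) : G) * u := hc _ h12
  have hp : u * w₁ * u⁻¹ * (w₁ : G)⁻¹ * (u * w₂ * u⁻¹ * (w₂ : G)⁻¹) = 1 := by
    have hA2 := hu.comm u huU w₂ w₂.2
    calc u * w₁ * u⁻¹ * (w₁ : G)⁻¹ * (u * w₂ * u⁻¹ * (w₂ : G)⁻¹)
        = u * w₁ * u⁻¹ * ((w₁ : G)⁻¹ * (u * w₂ * u⁻¹ * (w₂ : G)⁻¹)) := by group
      _ = u * w₁ * u⁻¹ * ((u * w₂ * u⁻¹ * (w₂ : G)⁻¹) * (w₁ : G)⁻¹) := by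
          rw [d.A_central h (d.UT (inv_mem w₁.2)) hA2]
      _ = u * ((w₁ * w₂ : U) : G) * u⁻¹ * ((w₁ * w₂ : U) : G)⁻¹ := by push_cast; group
      _ = 1 := by rw [h1]; group
  rw [hcom w₁ hq1, hcom w₂ hq2, hv1, hv2] at hp
  have hmem : ∀ x, q x ∈ W → q x * q x = 1 := fun x hx => h.sq ((hm.memW _).1 hx).1
  refine hm.pent.pair_ne hv ?_
  have h3 : π w₀ * f (f (π w₀)) ≠ 1 := fun e' => hv (hm.pent.it_fixed (i := 2) (by norm_num) (by norm_num)
    (mul_left_cancel (e'.trans (hm.pent.two _).symm)))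
  exact mul_right_cancel (hp.trans (hmem _ (hm.pent.mem _ h3)).symm)

/-- The centraliser of an element of `U` has a further element outside `A`. -/
theorem exists_comm {u : G} (huU : u ∈ U) : ∃ w ∈ U, w ∉ A ∧ u⁻¹ * w ∉ A ∧ u * w = w * u := by
  classical
  let c : ↥U →* ↥A := MonoidHom.mk' (fun w => ⟨u * w * u⁻¹ * (w : G)⁻¹, hu.comm u huU w w.2⟩) fun a b =>
    Subtype.ext (by
      show u * ((a * b : U) : G) * u⁻¹ * ((a * b : U) : G)⁻¹ =
        u * a * u⁻¹ * (a : G)⁻¹ * (u * b * u⁻¹ * (b : G)⁻¹)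
      push_cast
      calc u * ((a : G) * b) * u⁻¹ * ((a : G) * b)⁻¹
          = u * a * u⁻¹ * ((u * b * u⁻¹ * (b : G)⁻¹) * (a : G)⁻¹) := by group
        _ = u * a * u⁻¹ * ((a : G)⁻¹ * (u * b * u⁻¹ * (b : G)⁻¹)) := by
            rw [d.A_central h (d.UT (inv_mem a.2)) (hu.comm u huU b b.2)]
        _ = _ := by group)
  have hck : ∀ w : U, c w = 1 ↔ u * w = (w : G) * u := fun w => by
    rw [Subtype.ext_iff]
    show u * w * u⁻¹ * (w : G)⁻¹ = 1 ↔ _
    rw [mul_inv_eq_one, mul_inv_eq_iff_eq_mul]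
  have h16 : 16 ≤ Nat.card c.ker := by
    have h1 := c.ker.card_mul_index
    rw [hu.card, Subgroup.index_ker] at h1
    have h2 : Nat.card c.range ≤ 4 := by
      rw [← h.four]
      exact Nat.card_le_card_of_injective _ Subtype.val_injective
    nlinarith
  by_contra hc
  push Not at hc
  let g : ↥A ⊕ ↥A → ↥U := Sum.elim (fun a => ⟨a, d.AU a.2⟩) fun a => ⟨u * a, mul_mem huU (d.AU a.2)⟩
  have hle : Nat.card c.ker ≤ Nat.card (↥A ⊕ ↥A) := by
    refine (Nat.card_le_card_of_injective (fun w : c.ker => (⟨w.1, ?_⟩ : ↥(Set.range g)))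
      fun a b e => Subtype.ext (congrArg (fun x : ↥(Set.range g) => x.1) e)).trans
      (Nat.card_le_card_of_surjective _ Set.rangeFactorization_surjective)
    by_cases hA : (w.1 : G) ∈ A
    · exact ⟨Sum.inl ⟨_, hA⟩, rfl⟩
    · by_cases hA' : u⁻¹ * (w.1 : G) ∈ A
      · exact ⟨Sum.inr ⟨_, hA'⟩, Subtype.ext (mul_inv_cancel_left u _)⟩
      · exact absurd ((hck w.1).1 w.2) (hc _ w.1.2 hA hA')
  rw [Nat.card_sum, h.four] at hle
  omega

/-- An element of `T` outside `U P` fixes one class of each value. -/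
theorem fix_card {x : G} (hx : x ∈ T) (hxo : x ∉ U ⊔ P) {X : Subgroup G} (hX : X ≤ U)
    (hc : ∀ w ∈ X, x * w * x⁻¹ * w⁻¹ ∈ A) : Nat.card X ≤ 16 := by
  classical
  obtain ⟨ff, hfA, hfU, V, _, π, f, q, W, hm⟩ := d.exists_model h hu
  obtain ⟨α, hαq, hαπ⟩ := hm.aut x (d.normU hx) (h.central d.isPGroup d.AT hx)
  have hne : ¬ ∀ v, α v = v := fun hall => hxo (hu.inner x hx fun w hw => by
    have h1 := hαπ ⟨w, hw⟩ (conj_mem (d.normU hx) hw)
    rw [hall] at h1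
    refine (hm.ker (⟨x * w * x⁻¹, conj_mem (d.normU hx) hw⟩ * (⟨w, hw⟩ : U)⁻¹)).1 ?_
    rw [map_mul, ← h1, map_inv, mul_inv_cancel])
  set X' := X.subgroupOf U
  let g : ↥X' →* V := π.comp X'.subtype
  have hfix : ∀ w : X', α (g w) = g w := fun w => by
    show α (π w.1) = π w.1
    rw [hαπ w.1 (conj_mem (d.normU hx) w.1.2), ← mul_inv_eq_one, ← map_inv, ← map_mul, hm.ker]
    exact hc _ w.2
  have hrange : Nat.card g.range ≤ 4 := by
    have hcard : (insert 1 W).card ≤ 4 := (Finset.card_insert_le _ _).trans (by rw [hm.pent.three])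
    refine le_trans (Nat.card_le_card_of_injective
      (fun v : g.range => (⟨q v, ?_⟩ : ↥(insert (1 : G) W))) ?_) (by rwa [Nat.card_eq_fintype_card, Fintype.card_coe])
    · by_cases hv : (v : V) = 1
      · rw [hv, show (1 : V) = π 1 from (map_one π).symm, hm.sqq]
        simp
      · exact Finset.mem_insert_of_mem (hm.pent.mem _ hv)
    rintro ⟨_, a, rfl⟩ ⟨_, b, rfl⟩ e
    have e' : q (g a) = q (g b) := congrArg Subtype.val e
    refine Subtype.ext ?_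
    show g a = g b
    by_cases hb : g b = 1
    · by_contra hab
      rw [hb] at e' hab
      exact hm.pent.one (e' ▸ hm.pent.mem _ hab)
    exact hm.pent.fixed_unique hαq hne hb (hfix b) (hfix a) e'
  have hker : Nat.card g.ker ≤ 4 := by
    rw [← h.four]
    exact Nat.card_le_card_of_injective (fun w : g.ker => (⟨(w.1.1 : G), (hm.ker _).1 w.2⟩ : A))
      fun a b e => Subtype.ext (Subtype.ext (Subtype.ext (congrArg (fun y : A => (y : G)) e)))
  have h1 := g.ker.card_mul_index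
  rw [Subgroup.index_ker, Nat.card_congr (Subgroup.subgroupOfEquivOfLe hX).toEquiv] at h1
  nlinarith

/-- A 2-group acting on `U` fixes a class with given square. -/
theorem exists_fixed_class {D : Subgroup G} (hD : IsPGroup 2 D) (hDU : D ≤ normalizer (U : Set G))
    (hDA : D ≤ centralizer (A : Set G)) {a : G} (ha : a ∈ A) (ha1 : a ≠ 1) :
    ∃ u ∈ U, u * u = a ∧ ∀ x ∈ D, x * u * x⁻¹ * u⁻¹ ∈ A := by
  classical
  haveI : Fact (Nat.Prime 2) := ⟨Nat.prime_two⟩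
  obtain ⟨ff, hfA, hfU, V, _, π, f, q, W, hm⟩ := d.exists_model h hu
  have key : ∀ x : D, ∃ α : V ≃* V, (∀ v, q (α v) = q v) ∧
      ∀ (w : U) (hw : (x : G) * w * (x : G)⁻¹ ∈ U), α (π w) = π ⟨(x : G) * w * (x : G)⁻¹, hw⟩ :=
    fun x => hm.aut x (hDU x.2) (hDA x.2)
  choose α hαq hαπ using key
  let F := {v : V // q v = a}
  letI : MulAction D F :=
    { smul := fun x v => ⟨α x v.1, (hαq x v.1).trans v.2⟩
      one_smul := fun v => Subtype.ext (by
        obtain ⟨w, hw⟩ := hm.surj v.1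
        show α 1 v.1 = v.1
        rw [← hw, hαπ 1 w (by simp)]
        exact congrArg π (Subtype.ext (by simp)))
      mul_smul := fun x y v => Subtype.ext (by
        obtain ⟨w, hw⟩ := hm.surj v.1
        show α (x * y) v.1 = α x (α y v.1)
        rw [← hw, hαπ _ w (conj_mem (hDU (x * y).2) w.2), hαπ y w (conj_mem (hDU y.2) w.2),
          hαπ x _ (conj_mem (hDU x.2) (conj_mem (hDU y.2) w.2))]
        exact congrArg π (Subtype.ext (by push_cast; group))) }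
  obtain ⟨v₀, hv₀⟩ := hm.pent.onto a ((hm.memW a).2 ⟨ha, ha1⟩)
  have hv1 : v₀ ≠ 1 := fun e => hm.pent.one (by rw [← e, hv₀]; exact (hm.memW a).2 ⟨ha, ha1⟩)
  have h5 : Nat.card F = 5 := by
    have e : Fin 5 ≃ F := Equiv.ofBijective
      (fun i => ⟨f^[(i : ℕ)] v₀, (hm.pent.q_it _ _).trans hv₀⟩)
      ⟨fun i j e => Fin.ext (hm.pent.it_inj i.2 j.2 hv1 (congrArg Subtype.val e)), fun v => by
        obtain ⟨i, hi, e⟩ := hm.pent.orbit hv1 (v.2.trans hv₀.symm)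
        exact ⟨⟨i, hi⟩, Subtype.ext e.symm⟩⟩
    rw [← Nat.card_congr e, Nat.card_fin]
  obtain ⟨v, hv⟩ := hD.nonempty_fixed_point_of_prime_not_dvd_card F (by rw [h5]; norm_num)
  obtain ⟨w, hw⟩ := hm.surj v.1
  refine ⟨w, w.2, by rw [← hm.sqq, hw, v.2], fun x hx => ?_⟩
  have h1 : α ⟨x, hx⟩ v.1 = v.1 := congrArg Subtype.val (hv ⟨x, hx⟩)
  rw [← hw, hαπ _ w (conj_mem (hDU hx) w.2), ← mul_inv_eq_one, ← map_inv, ← map_mul, hm.ker] at h1
  exact h1

/-- The elements of `T` outside `U P` form one coset. -/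
theorem outside_mul {x y : G} (hx : x ∈ T) (hxo : x ∉ U ⊔ P) (hy : y ∈ T) (hyo : y ∉ U ⊔ P) :
    x * y ∈ U ⊔ P := by
  obtain ⟨ff, hfA, hfU, V, _, π, f, q, W, hm⟩ := d.exists_model h hu
  obtain ⟨a, ha, ha1⟩ := (Subgroup.bot_or_exists_ne_one A).resolve_left h.hyp.ne
  obtain ⟨u, huU, hsq, hfix⟩ := d.exists_fixed_class h hu d.isPGroup d.normU (h.central d.isPGroup d.AT) ha ha1
  set v := π ⟨u, huU⟩ with hv
  have hv1 : v ≠ 1 := fun e => ha1 (hsq ▸ h.sq ((hm.ker _).1 e))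
  have key : ∀ {t : G} (ht : t ∈ T), ∃ α : V ≃* V, (∀ w, q (α w) = q w) ∧ α v = v ∧
      (∀ (w : U) (hw : t * w * t⁻¹ ∈ U), α (π w) = π ⟨t * w * t⁻¹, hw⟩) ∧ ((∀ w, α w = w) → t ∈ U ⊔ P) := by
    intro t ht
    obtain ⟨α, hαq, hαπ⟩ := hm.aut t (d.normU ht) (h.central d.isPGroup d.AT ht)
    refine ⟨α, hαq, ?_, hαπ, fun hall => hu.inner t ht fun w hw => ?_⟩
    · rw [hv, hαπ _ (conj_mem (d.normU ht) huU), ← mul_inv_eq_one, ← map_inv, ← map_mul, hm.ker]
      exact hfix t ht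
    · have h1 := hαπ ⟨w, hw⟩ (conj_mem (d.normU ht) hw)
      rw [hall] at h1
      refine (hm.ker (⟨t * w * t⁻¹, conj_mem (d.normU ht) hw⟩ * (⟨w, hw⟩ : U)⁻¹)).1 ?_
      rw [map_mul, ← h1, map_inv, mul_inv_cancel]
  obtain ⟨α, hαq, hαv, hαπ, hαi⟩ := key hx
  obtain ⟨β, hβq, hβv, hβπ, hβi⟩ := key hy
  obtain ⟨γ, hγq, hγv, hγπ, hγi⟩ := key (mul_mem hx hy)
  refine hγi fun w => hm.pent.eq_one_of_fixed hγq hv1 hγv ?_ w
  have hγ : ∀ w, γ w = α (β w) := fun w => by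
    obtain ⟨w, rfl⟩ := hm.surj w
    rw [hγπ w (conj_mem (d.normU (mul_mem hx hy)) w.2), hβπ w (conj_mem (d.normU hy) w.2),
      hαπ _ (conj_mem (d.normU hx) (conj_mem (d.normU hy) w.2))]
    exact congrArg π (Subtype.ext (by push_cast; group))
  rw [hγ, (hm.pent.swap hβq (fun h' => hyo (hβi h')) hv1 hβv).1,
    (hm.pent.swap hαq (fun h' => hxo (hαi h')) hv1 hαv).2]

/-- An element outside `U P` with square in `A P` commutes with no element of `U` outside `A`. -/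
theorem no_commute {x : G} (hx : x ∈ T) (hxo : x ∉ U ⊔ P) (hx2 : x * x ∈ A ⊔ P) {u : G} (huU : u ∈ U)
    (hxu : x * u = u * x) : u ∈ A := by
  classical
  obtain ⟨ff, hfA, hfU, V, _, π, f, q, W, hm⟩ := d.exists_model h hu
  obtain ⟨α, hαq, hαπ⟩ := hm.aut x (d.normU hx) (h.central d.isPGroup d.AT hx)
  have hne : ¬ ∀ v, α v = v := fun hall => hxo (hu.inner x hx fun w hw => by
    have h1 := hαπ ⟨w, hw⟩ (conj_mem (d.normU hx) hw)
    rw [hall] at h1
    refine (hm.ker (⟨x * w * x⁻¹, conj_mem (d.normU hx) hw⟩ * (⟨w, hw⟩ : U)⁻¹)).1 ?_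
    rw [map_mul, ← h1, map_inv, mul_inv_cancel])
  have hcl : ∀ w : U, α (π w) = π w ↔ x * w * x⁻¹ * (w : G)⁻¹ ∈ A := fun w => by
    rw [hαπ w (conj_mem (d.normU hx) w.2), ← mul_inv_eq_one, ← map_inv, ← map_mul, hm.ker]
    rfl
  have hsq : ∀ w : G, w ∈ U → x * (x * w * x⁻¹) * x⁻¹ = w := by
    intro w hw
    obtain ⟨b, hb, p, hp, e⟩ := d.exists_mul hx2
    calc x * (x * w * x⁻¹) * x⁻¹ = x * x * w * (x * x)⁻¹ := by group
      _ = b * (p * w * p⁻¹) * b⁻¹ := by rw [e]; group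
      _ = w := by rw [← d.comm hw hp, mul_inv_cancel_right, d.A_central h (d.UT hw) hb, mul_inv_cancel_right]
  -- the commutator on the fixed class got from a fixed class
  have key : ∀ v : U, π v ≠ 1 → α (π v) = π v → ∃ w : U, π w ≠ 1 ∧ π w ≠ π v ∧ α (π w) = π w ∧
      x * w * x⁻¹ * (w : G)⁻¹ = q (π w) := by
    intro v hv hfix
    obtain ⟨hs1, hs4⟩ := hm.pent.swap hαq hne hv hfix
    set v1 : U := ⟨ff * v * ff⁻¹, conj_mem hfU v.2⟩
    obtain ⟨v4, hv4⟩ := hm.surj (f^[4] (π v))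
    have e1 : π v1 = f (π v) := (hm.conj v _).symm
    have hc1 : (v4 : G)⁻¹ * (x * v1 * x⁻¹) ∈ A := by
      refine (hm.ker (v4⁻¹ * ⟨x * v1 * x⁻¹, conj_mem (d.normU hx) v1.2⟩)).1 ?_
      rw [map_mul, map_inv, ← hαπ v1 _, e1, hs1, hv4, inv_mul_cancel]
    set c := (v4 : G)⁻¹ * (x * v1 * x⁻¹) with hc
    have h1 : x * v1 * x⁻¹ = v4 * c := by rw [hc]; group
    have h4 : x * v4 * x⁻¹ = v1 * c := by
      have := hsq v1 v1.2
      rw [h1, show x * ((v4 : G) * c) * x⁻¹ = x * v4 * x⁻¹ * (x * c * x⁻¹) by group, d.conj_A h hx hc1] at this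
      calc x * v4 * x⁻¹ = x * v4 * x⁻¹ * c * c⁻¹ := by group
        _ = v1 * c := by rw [this, h.inv_eq hc1]
    have hq4 : (v4 : G) * v4 = v1 * v1 := by
      rw [← hm.sqq, ← hm.sqq, hv4, e1, hm.pent.q_it, hm.pent.qf]
    refine ⟨v1 * v4, ?_, ?_, ?_, ?_⟩
    · rw [map_mul, e1, hv4]
      intro e
      have := mul_left_cancel (e.trans (hm.pent.two (f (π v))).symm)
      exact absurd (hm.pent.it_inj (i := 4) (j := 1) (by norm_num) (by norm_num) hv this) (by norm_num)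
    · rw [map_mul, e1, hv4]
      intro e
      have h3 : q (f (π v) * f^[4] (π v)) = q (π v) := by rw [e]
      have h5 : f^[2] (π v) * π v = f (f (π v) * f^[4] (π v)) := by
        rw [map_mul, ← Function.iterate_succ_apply' f 4, hm.pent.five]
        rfl
      have h6 : f^[2] (π v) * π v = f (π v) := by rw [h5, e]
      have h7 : π v * f (π v) = f^[2] (π v) := by
        rw [← h6, hm.pent.comm (π v), mul_assoc, hm.pent.two, mul_one]
      have h8 : q (π v * f (π v)) = q (π v) := by rw [h7, hm.pent.q_it]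
      have h9 : q (π v * f (f (π v))) = q (π v) := by
        rw [hm.pent.comm]
        show q (f^[2] (π v) * π v) = _
        rw [h6, hm.pent.qf]
      exact hm.pent.pair_ne hv (h8.trans h9.symm)
    · rw [map_mul, map_mul, e1, hv4, hs1, hs4, hm.pent.comm]
    rw [hm.sqq]
    push_cast
    rw [show x * ((v1 : G) * v4) * x⁻¹ * ((v1 : G) * v4)⁻¹ =
      x * v1 * x⁻¹ * (x * v4 * x⁻¹) * (v4 : G)⁻¹ * (v1 : G)⁻¹ by group, h1, h4,
      show (v4 : G) * c * (v1 * c) = v4 * v1 by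
        rw [mul_assoc (v4 : G) c, ← mul_assoc c, d.A_central h (d.UT v1.2) hc1, mul_assoc (v1 : G), h.sq hc1, mul_one]]
    have hd := hu.comm v4 v4.2 v1 v1.2
    calc (v4 : G) * v1 * (v4 : G)⁻¹ * (v1 : G)⁻¹ = v4 * v1 * (v4 * v1) * ((v4 : G) * v4 * ((v1 : G) * v1)) :=
          d.comm_eq h hu v4.2 v1.2
      _ = v4 * v1 * (v4 * v1) := by rw [hq4, h.sq (hu.sq v1 v1.2), mul_one]
      _ = v1 * (v4 * (v1 * v4)) := by
        have hs := hu.sq (v4 * v1 : U) (v4 * v1 : U).2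
        push_cast at hs
        calc (v4 : G) * v1 * (v4 * v1) = v1 * ((v4 : G) * v1 * (v4 * v1)) * (v1 : G)⁻¹ := (d.conj_A h (d.UT v1.2) hs).symm
          _ = _ := by group
      _ = _ := by group
  by_contra huA
  have hu1 : π ⟨u, huU⟩ ≠ 1 := fun e => huA ((hm.ker _).1 e)
  have hufix : α (π ⟨u, huU⟩) = π ⟨u, huU⟩ := (hcl _).2 (by
    show x * u * x⁻¹ * u⁻¹ ∈ A
    rw [hxu, mul_inv_cancel_right, mul_inv_cancel]
    exact one_mem A)
  obtain ⟨w1, hw1, hw1u, hf1, hc1⟩ := key _ hu1 hufix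
  obtain ⟨w2, hw2, hw21, hf2, hc2⟩ := key _ hw1 hf1
  have hinj : ∀ a b : V, a ≠ 1 → α a = a → α b = b → q b = q a → b = a := fun a b ha hfa hfb e =>
    hm.pent.fixed_unique hαq hne ha hfa hfb e
  have hwA : ∀ a : V, a ≠ 1 → q a ∈ A ∧ q a ≠ 1 := fun a ha => (hm.memW _).1 (hm.pent.mem a ha)
  have hw2u : π w2 ≠ π ⟨u, huU⟩ := by
    intro e
    have h1 : (u : G)⁻¹ * w2 ∈ A := (hm.ker ((⟨u, huU⟩ : U)⁻¹ * w2)).1 (by rw [map_mul, map_inv, e, inv_mul_cancel])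
    rw [show (w2 : G) = u * ((u : G)⁻¹ * w2) by group,
      show x * (u * ((u : G)⁻¹ * w2)) * x⁻¹ = x * u * x⁻¹ * (x * ((u : G)⁻¹ * w2) * x⁻¹) by group,
      d.conj_A h hx h1, hxu, mul_inv_cancel_right, mul_inv_cancel] at hc2
    exact (hwA _ hw2).2 hc2.symm
  have hprod : π w1 * π w2 = π ⟨u, huU⟩ := by
    have hne12 : π w1 * π w2 ≠ 1 := fun e => hw21 (mul_left_cancel (e.trans (hm.pent.two _).symm))
    have hfix12 : α (π w1 * π w2) = π w1 * π w2 := by rw [map_mul, hf1, hf2]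
    refine hinj _ _ hu1 hufix hfix12 ?_
    have hd : ∀ {a b : V}, a ≠ 1 → b ≠ 1 → α a = a → α b = b → a ≠ b → q a ≠ q b :=
      fun ha hb hfa hfb hab e => hab (hinj _ _ hb hfb hfa e)
    rcases h.cases (hwA _ hw1).1 (hwA _ hw1).2 (hwA _ hw2).1 (hwA _ hw2).2 (hd hw1 hw2 hf1 hf2 hw21.symm)
      (hwA _ hne12).1 with e | e | e | e
    · exact absurd e (hwA _ hne12).2
    · exact absurd (mul_eq_left.1 (hinj _ _ hw1 hf1 hfix12 e)) hw2
    · exact absurd (mul_eq_right.1 (hinj _ _ hw2 hf2 hfix12 e)) hw1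
    rcases h.cases (hwA _ hw1).1 (hwA _ hw1).2 (hwA _ hw2).1 (hwA _ hw2).2 (hd hw1 hw2 hf1 hf2 hw21.symm)
      (hwA _ hu1).1 with e' | e' | e' | e'
    · exact absurd e' (hwA _ hu1).2
    · exact absurd (hinj _ _ hw1 hf1 hufix e') hw1u.symm
    · exact absurd (hinj _ _ hw2 hf2 hufix e') hw2u.symm
    · exact e.trans e'.symm
  -- the commutator is multiplicative
  have h1 : (u : G)⁻¹ * ((w1 : G) * w2) ∈ A := (hm.ker ((⟨u, huU⟩ : U)⁻¹ * (w1 * w2))).1 (by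
    rw [map_mul, map_mul, map_inv, hprod, inv_mul_cancel])
  have h2 : x * ((w1 : G) * w2) * x⁻¹ * ((w1 : G) * w2)⁻¹ = 1 := by
    rw [show (w1 : G) * w2 = u * ((u : G)⁻¹ * (w1 * w2)) by group,
      show x * (u * ((u : G)⁻¹ * (w1 * w2))) * x⁻¹ = x * u * x⁻¹ * (x * ((u : G)⁻¹ * (w1 * w2)) * x⁻¹) by group,
      d.conj_A h hx h1, hxu, mul_inv_cancel_right, mul_inv_cancel]
  have h3 : x * ((w1 : G) * w2) * x⁻¹ * ((w1 : G) * w2)⁻¹ =
      x * w1 * x⁻¹ * (w1 : G)⁻¹ * (x * w2 * x⁻¹ * (w2 : G)⁻¹) := by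
    calc x * ((w1 : G) * w2) * x⁻¹ * ((w1 : G) * w2)⁻¹
        = x * w1 * x⁻¹ * ((x * w2 * x⁻¹ * (w2 : G)⁻¹) * (w1 : G)⁻¹) := by group
      _ = x * w1 * x⁻¹ * ((w1 : G)⁻¹ * (x * w2 * x⁻¹ * (w2 : G)⁻¹)) := by
          rw [d.A_central h (d.UT (inv_mem w1.2)) ((hcl w2).1 hf2)]
      _ = _ := by group
  rw [h3, hc1, hc2] at h2
  refine hw21 (hinj _ _ hw1 hf1 hf2 ?_)
  rw [← h.inv_eq (hwA _ hw1).1]
  exact (eq_inv_of_mul_eq_one_right h2)

/-- An element outside `U P` with square in `A P` moves some element of `U` inside its `A`-coset. -/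
theorem exists_move {x : G} (hx : x ∈ T) (hxo : x ∉ U ⊔ P) (hx2 : x * x ∈ A ⊔ P) :
    ∃ u ∈ U, x * u * x⁻¹ * u⁻¹ ∈ A ∧ x * u * x⁻¹ * u⁻¹ ≠ 1 := by
  obtain ⟨a, ha, ha1⟩ := (Subgroup.bot_or_exists_ne_one A).resolve_left h.hyp.ne
  obtain ⟨u, huU, hsq, hfix⟩ := d.exists_fixed_class h hu (d.isPGroup.to_le (zpowers_le.2 hx))
    ((zpowers_le.2 hx).trans d.normU) ((zpowers_le.2 hx).trans (h.central d.isPGroup d.AT)) ha ha1
  refine ⟨u, huU, hfix x (mem_zpowers x), fun e => ha1 ?_⟩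
  rw [← hsq]
  exact h.sq (d.no_commute h hu hx hxo hx2 huU (mul_inv_eq_iff_eq_mul.1 (mul_inv_eq_one.1 e)))

omit hu

/-- What centralises `U` lies in `A P`. -/
theorem cent {x : G} (hx : x ∈ T) (hc : ∀ u ∈ U, x * u = u * x) : x ∈ A ⊔ P := by
  rcases d.types with ⟨-, hT⟩ | hu
  · exact hT ▸ hx
  obtain ⟨u, huU, p, hp, rfl⟩ := d.exists_mul_U (hu.inner x hx fun w hw => by
    rw [hc w hw, mul_inv_cancel_right, mul_inv_cancel]; exact one_mem A)
  refine mul_mem (mem_sup_left (d.center_U h hu huU fun w hw => ?_)) (mem_sup_right hp)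
  have := hc w hw
  rw [mul_assoc, ← d.comm hw hp, ← mul_assoc, ← mul_assoc] at this
  exact mul_right_cancel this

/-- What centralises `U` inside another centraliser. -/
theorem cent_transfer {w : G} {T' U' P' : Subgroup G} (d' : CData A w T' U' P') (hL : U = A → U' = A)
    (hUT : U ≤ T') {x : G} (hx : x ∈ T') (hc : ∀ u ∈ U, x * u = u * x) : x ∈ A ⊔ P' := by
  rcases d'.types with ⟨-, hT⟩ | hu'
  · exact hT ▸ hx
  rcases d.types with hL' | hu
  · have h64 := hu'.card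
    rw [hL hL'.1, h.four] at h64
    omega
  classical
  haveI : Fact (Nat.Prime 2) := ⟨Nat.prime_two⟩
  set X : Subgroup G := U ⊓ (U' ⊔ P') with hX
  have hX32 : 32 ≤ Nat.card X := by
    have h1 : X.relIndex U ≤ 2 := by
      by_contra hlt
      obtain ⟨y, hy, hyo⟩ : ∃ y ∈ U, y ∉ X := by
        by_contra hall
        push Not at hall
        exact hlt (by rw [Subgroup.relIndex_eq_one.2 (fun y hy => hall y hy)]; norm_num)
      have hi : (X.subgroupOf U).index ≤ 2 := by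
        have hout : ∀ v : U, v ∉ X.subgroupOf U → ((v : G) ∈ T' ∧ (v : G) ∉ U' ⊔ P') := fun v hv =>
          ⟨hUT v.2, fun hv' => hv ⟨v.2, hv'⟩⟩
        refine le_of_eq (Subgroup.index_eq_two_iff.2 ⟨⟨y, hy⟩, fun b => ?_⟩)
        have hyo' := hout ⟨y, hy⟩ hyo
        by_cases hb : b ∈ X.subgroupOf U
        · refine Or.inr ⟨hb, fun hby => hyo ?_⟩
          have := mul_mem (inv_mem hb) hby
          rwa [inv_mul_cancel_left] at this
        · obtain ⟨hbT, hbo⟩ := hout b hb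
          exact Or.inl ⟨⟨mul_mem b.2 hy, d'.outside_mul h hu' hbT hbo hyo'.1 hyo'.2⟩, hb⟩
      exact hlt hi
    have h2 := (X.subgroupOf U).card_mul_index
    rw [Nat.card_congr (Subgroup.subgroupOfEquivOfLe (inf_le_left : X ≤ U)).toEquiv, hu.card] at h2
    rw [Subgroup.relIndex] at h1
    nlinarith
  -- the projection to `U'`
  have hex : ∀ v : X, ∃ u : U', ∃ p ∈ P', (v : G) = u * p := fun v => by
    obtain ⟨u, hu2, p, hp, e⟩ := d'.exists_mul_U v.2.2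
    exact ⟨⟨u, hu2⟩, p, hp, e⟩
  choose pu pp hpp he using hex
  set Y : Subgroup G := (X ⊔ P') ⊓ U' with hY
  have hY32 : 32 ≤ Nat.card Y := by
    refine hX32.trans (Nat.card_le_card_of_injective (fun v : X => (⟨pu v, ?_, (pu v).2⟩ : Y)) ?_)
    · rw [show (pu v : G) = (v : G) * (pp v)⁻¹ by rw [he v]; group]
      exact mul_mem (mem_sup_left v.2) (mem_sup_right (inv_mem (hpp v)))
    intro v v' e
    have e' : (pu v : G) = pu v' := congrArg (fun y : Y => (y : G)) e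
    by_contra hne
    have h1 : (v : G)⁻¹ * v' ∈ U ⊓ P' := ⟨U.mul_mem (U.inv_mem v.2.1) v'.2.1, by
      rw [he v, he v', e', mul_inv_rev, mul_assoc, inv_mul_cancel_left]
      exact P'.mul_mem (P'.inv_mem (hpp v)) (hpp v')⟩
    have hbot : U ⊓ P' = ⊥ := by
      by_contra hne'
      obtain ⟨i, hi, hi2, -⟩ := exists_fixed_involution (P := U ⊓ P') (d'.isPGroup.to_le (inf_le_right.trans d'.PT))
        le_rfl Subgroup.le_normalizer hne'
      have : i ∈ A ⊓ P' := ⟨d.invU i hi.1 (by rw [← pow_two, ← hi2, pow_orderOf_eq_one]), hi.2⟩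
      rw [d'.A_inf_P, mem_bot] at this
      simp [this] at hi2
    rw [hbot, mem_bot] at h1
    exact hne (Subtype.ext (inv_mul_eq_one.1 h1))
  have hcomm : ∀ y ∈ Y, x * y * x⁻¹ * y⁻¹ = 1 := by
    intro y hy
    have hXP : (X : Subgroup G) ≤ normalizer (P' : Set G) := fun v hv => d'.normP (hUT hv.1)
    have hy2 : y ∈ U' := hy.2
    have hy1 : y ∈ ((X ⊔ P' : Subgroup G) : Set G) := hy.1
    rw [coe_mul_of_left_le_normalizer_right _ _ hXP] at hy1
    obtain ⟨v, hv, p, hp, rfl⟩ := hy1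
    have h1 : x * (v * p) * x⁻¹ * (v * p)⁻¹ ∈ P' := by
      rw [show x * (v * p) * x⁻¹ * (v * p)⁻¹ = x * v * x⁻¹ * (x * p * x⁻¹ * p⁻¹) * v⁻¹ by group,
        hc v hv.1, mul_inv_cancel_right]
      exact conj_mem (hXP hv) (P'.mul_mem (conj_mem (d'.normP hx) hp) (inv_mem hp))
    have h2 : x * (v * p) * x⁻¹ * (v * p)⁻¹ ∈ U' ⊓ P' :=
      ⟨U'.mul_mem (conj_mem (d'.normU hx) hy2) (inv_mem hy2), h1⟩
    rwa [d'.disj, mem_bot] at h2
  by_cases hxo : x ∈ U' ⊔ P'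
  · obtain ⟨u0, hu0, p0, hp0, rfl⟩ := d'.exists_mul_U hxo
    refine mul_mem (mem_sup_left ?_) (mem_sup_right hp0)
    by_contra huA
    have : Nat.card ↥Y ≤ 16 := d'.cent_card h hu' hu0 huA (inf_le_right : Y ≤ U') fun y hy => by
      have h1 := mul_inv_eq_iff_eq_mul.1 (mul_inv_eq_one.1 (hcomm y hy))
      rw [mul_assoc, ← d'.comm (show y ∈ U' from hy.2) hp0, ← mul_assoc, ← mul_assoc] at h1
      exact mul_right_cancel h1
    omega
  · have : Nat.card ↥Y ≤ 16 := d'.fix_card h hu' hx hxo (inf_le_right : Y ≤ U') fun y hy => by rw [hcomm y hy]; exact one_mem A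
    omega

end CData

end Cfsg.Agent.Goldschmidt
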